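import Mathlib

/-! Automorphism groups of `V ≅ C_p × C_p` with two distinct Sylow `p`-subgroups: fixed points and transvections. -/

set_option autoImplicit false

namespace Cfsg.Agent.Lib.Helper50

open Subgroup

section
variable {V : Type*} [CommGroup V] {p : ℕ} [Fact p.Prime]

/-- a `p`-automorphism normalizing a subgroup `⟨y⟩` of order `p` centralizes it -/
theorem aut_fix_of_invariant (u : MulAut V) (m : ℕ) (hu : u ^ (p ^ m) = 1) (y : V) (hy : y ^ p = 1)
    (hinv : u y ∈ zpowers y) : u y = y := by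
  by_cases hy1 : y = 1
  · rw [hy1, map_one]
  have hord : orderOf y = p := orderOf_eq_prime hy hy1
  have hfo : IsOfFinOrder y := isOfFinOrder_iff_pow_eq_one.2 ⟨p, (Fact.out : p.Prime).pos, hy⟩
  obtain ⟨j, hj⟩ := (hfo.mem_powers_iff_mem_zpowers).2 hinv
  have hj' : y ^ j = u y := hj
  have key : ∀ n : ℕ, (u ^ n) y = y ^ (j ^ n) := by
    intro n
    induction n with
    | zero => simp
    | succ n ih =>
      rw [pow_succ', MulAut.mul_apply, ih, map_pow, ← hj', ← pow_mul, pow_succ']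
  have h1 := key (p ^ m)
  rw [hu, MulAut.one_apply] at h1
  have h2 : y ^ 1 = y ^ (j ^ (p ^ m)) := by rw [pow_one]; exact h1
  rw [pow_eq_pow_iff_modEq, hord] at h2
  have h3 := (ZMod.natCast_eq_natCast_iff _ _ _).2 h2
  push_cast at h3
  rw [ZMod.pow_card_pow] at h3
  have h4 : j ≡ 1 [MOD p] := (ZMod.natCast_eq_natCast_iff _ _ _).1 (by push_cast; exact h3.symm)
  rw [← hj', ← pow_one y, ← pow_mul, one_mul, pow_eq_pow_iff_modEq, hord]
  exact h4

variable [Finite V]

/-- a `p`-automorphism of `C_p × C_p` fixing `z ≠ 1` is a transvection with centre `⟨z⟩` -/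
theorem aut_comm_mem (hV : Nat.card V = p ^ 2) (hexp : ∀ x : V, x ^ p = 1) (u : MulAut V) (m : ℕ)
    (hu : u ^ (p ^ m) = 1) (z : V) (hz1 : z ≠ 1) (huz : u z = z) (x : V) :
    u x * x⁻¹ ∈ zpowers z := by
  have hpp : p.Prime := Fact.out
  let N : V →* V := u.toMonoidHom / MonoidHom.id V
  have hN : ∀ x, N x = u x * x⁻¹ := fun x => by
    show u x / x = _
    rw [div_eq_mul_inv]
  have hzc : Nat.card (zpowers z) = p := by
    rw [Nat.card_zpowers]; exact orderOf_eq_prime (hexp z) hz1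
  have hzk : zpowers z ≤ N.ker := by
    rw [zpowers_le, MonoidHom.mem_ker, hN, huz, mul_inv_cancel]
  have h1 := N.ker.card_mul_index
  rw [index_ker, hV] at h1
  have h2 := card_dvd_of_le hzk
  rw [hzc] at h2
  obtain ⟨d, hd⟩ := h2
  have h3 : d * Nat.card N.range = p := by
    have : p * (d * Nat.card N.range) = p * p := by rw [← mul_assoc, ← hd, h1]; ring
    exact Nat.eq_of_mul_eq_mul_left hpp.pos this
  have h4 : Nat.card N.range ∣ p := ⟨d, by rw [← h3]; ring⟩
  rw [← hN]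
  rcases (Nat.dvd_prime hpp).1 h4 with h4 | h4
  · have : N.range = ⊥ := card_eq_one.1 h4
    have h5 : N x ∈ N.range := ⟨x, rfl⟩
    rw [this, mem_bot] at h5
    rw [h5]; exact one_mem _
  · have hd1 : d = 1 := by
      rw [h4] at h3
      exact Nat.eq_of_mul_eq_mul_right hpp.pos (by rw [h3, one_mul])
    have hker : N.ker = zpowers z := by
      symm
      apply eq_of_le_of_card_ge hzk
      rw [hd, hd1, hzc, mul_one]
    rw [← hker, MonoidHom.mem_ker, hN]
    -- `u` fixes `N x`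
    have h5 : u (N x) = N x := by
      apply aut_fix_of_invariant u m hu _ (hexp _)
      by_cases h6 : N x = 1
      · rw [h6, map_one]; exact one_mem _
      have h7 : zpowers (N x) = N.range := by
        apply eq_of_le_of_card_ge
        · rw [zpowers_le]; exact ⟨x, rfl⟩
        · rw [h4, Nat.card_zpowers, orderOf_eq_prime (hexp _) h6]
      rw [h7]
      refine ⟨u x, ?_⟩
      rw [hN, hN, map_mul, map_inv]
    rw [h5, mul_inv_cancel]

/-- the transvections with centre and axis `⟨z⟩` -/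
def transvGroup (z : V) : Subgroup (MulAut V) where
  carrier := {w | w z = z ∧ ∀ x, w x * x⁻¹ ∈ zpowers z}
  one_mem' := ⟨rfl, fun x => by simp⟩
  mul_mem' := by
    rintro w w' ⟨h1, h2⟩ ⟨h1', h2'⟩
    refine ⟨by rw [MulAut.mul_apply, h1', h1], fun x => ?_⟩
    obtain ⟨k, hk⟩ := mem_zpowers_iff.1 (h2' x)
    have e : w' x = z ^ k * x := by rw [hk]; simp
    rw [MulAut.mul_apply, e, map_mul, map_zpow, h1, mul_assoc]
    exact mul_mem (zpow_mem (mem_zpowers z) k) (h2 x)
  inv_mem' := by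
    rintro w ⟨h1, h2⟩
    have h1' : w⁻¹ z = z := by
      rw [MulAut.inv_apply, MulEquiv.symm_apply_eq, h1]
    refine ⟨h1', fun x => ?_⟩
    obtain ⟨k, hk⟩ := mem_zpowers_iff.1 (h2 (w⁻¹ x))
    have e : w (w⁻¹ x) = x := by rw [MulAut.inv_apply, MulEquiv.apply_symm_apply]
    rw [e] at hk
    have : w⁻¹ x * x⁻¹ = (z ^ k)⁻¹ := by rw [hk]; simp
    rw [this]
    exact inv_mem (zpow_mem (mem_zpowers z) k)

omit [Finite V] in
theorem transvGroup_isPGroup (z : V) (hz : z ^ p = 1) : IsPGroup p (transvGroup z) := by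
  rintro ⟨w, h1, h2⟩
  refine ⟨1, Subtype.ext ?_⟩
  show w ^ (p ^ 1) = 1
  rw [pow_one]
  ext x
  obtain ⟨k, hk⟩ := mem_zpowers_iff.1 (h2 x)
  have e : w x = x * z ^ k := by rw [hk]; simp
  have key : ∀ n : ℕ, (w ^ n) x = x * (z ^ k) ^ n := by
    intro n
    induction n with
    | zero => simp
    | succ n ih =>
      rw [pow_succ', MulAut.mul_apply, ih, map_mul, map_pow, map_zpow, h1, e, pow_succ', mul_assoc]
  have hzk : (z ^ k) ^ p = 1 := by
    rw [← zpow_natCast, ← zpow_mul, mul_comm, zpow_mul, zpow_natCast, hz, one_zpow]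
  rw [key, MulAut.one_apply, hzk, mul_one]

theorem sylow_eq_of_common_fixed (hV : Nat.card V = p ^ 2) (hexp : ∀ x : V, x ^ p = 1)
    (A : Subgroup (MulAut V)) (P₁ P₂ : Sylow p A) (z : V) (hz1 : z ≠ 1)
    (h1 : ∀ u ∈ P₁, (u : MulAut V) z = z) (h2 : ∀ u ∈ P₂, (u : MulAut V) z = z) : P₁ = P₂ := by
  have hD : IsPGroup p ((transvGroup z).subgroupOf A) :=
    (transvGroup_isPGroup z (hexp z)).comap_of_injective A.subtype A.subtype_injective
  have key : ∀ Q : Sylow p A, (∀ u ∈ Q, (u : MulAut V) z = z) →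
      (transvGroup z).subgroupOf A = (Q : Subgroup A) := by
    intro Q hQ
    apply Q.is_maximal' hD
    intro u hu
    obtain ⟨m, hm⟩ := Q.isPGroup' ⟨u, hu⟩
    have hm' : (u : MulAut V) ^ (p ^ m) = 1 := by
      have := congrArg (fun y : Q => ((y : A) : MulAut V)) hm
      simpa using this
    exact ⟨hQ u hu, fun x => aut_comm_mem hV hexp _ m hm' z hz1 (hQ u hu) x⟩
  exact Sylow.ext ((key P₁ h1).symm.trans (key P₂ h2))

theorem exists_moved_of_two_sylows (hV : Nat.card V = p ^ 2) (hexp : ∀ x : V, x ^ p = 1)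
    (A : Subgroup (MulAut V)) (P₁ P₂ : Sylow p A) (hne : P₁ ≠ P₂) (z : V) (hz1 : z ≠ 1) :
    ∃ α ∈ A, α z ∉ zpowers z := by
  by_contra hcon
  push Not at hcon
  have key : ∀ Q : Sylow p A, ∀ u ∈ Q, (u : MulAut V) z = z := by
    intro Q u hu
    obtain ⟨m, hm⟩ := Q.isPGroup' ⟨u, hu⟩
    have hm' : (u : MulAut V) ^ (p ^ m) = 1 := by
      have := congrArg (fun y : Q => ((y : A) : MulAut V)) hm
      simpa using this
    exact aut_fix_of_invariant _ m hm' z (hexp z) (hcon _ u.2)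
  exact hne (sylow_eq_of_common_fixed hV hexp A P₁ P₂ z hz1 (key P₁) (key P₂))

/-- a `p`-group of automorphisms has a nontrivial fixed point -/
theorem exists_fixed_of_isPGroup (hV : Nat.card V = p ^ 2) (U : Subgroup (MulAut V))
    (hU : IsPGroup p U) : ∃ a : V, a ≠ 1 ∧ ∀ u ∈ U, u a = a := by
  have h1 : (1 : V) ∈ MulAction.fixedPoints U V := by
    intro u
    show (u : MulAut V) 1 = 1
    exact map_one _
  obtain ⟨b, hb, hb1⟩ := hU.exists_fixed_point_of_prime_dvd_card_of_fixed_point V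
    (by rw [hV]; exact dvd_pow_self p (by norm_num)) h1
  exact ⟨b, hb1.symm, fun u hu => hb ⟨u, hu⟩⟩

end

end Cfsg.Agent.Lib.Helper50
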