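import Cfsg.Agent.Lib.Helper50.AutPlane1
import Cfsg.Agent.Lib.Helper50.QdExt

/-! Automorphism groups of `V ≅ C_p × C_p` with two distinct Sylow `p`-subgroups contain a torus. -/

set_option autoImplicit false

namespace Cfsg.Agent.Lib.Helper50

open Subgroup

section
variable {V : Type*} [CommGroup V] {p : ℕ} [Fact p.Prime]

/-- coordinates -/
def planeE (p : ℕ) (z a : V) (x y : ZMod p) : V := z ^ x.val * a ^ y.val

theorem pow_val_natCast (z : V) (hz : z ^ p = 1) (n : ℕ) : z ^ ((n : ZMod p).val) = z ^ n := by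
  rw [ZMod.val_natCast]; exact (pow_eq_pow_mod n hz).symm

theorem planeE_nat (z a : V) (hz : z ^ p = 1) (ha : a ^ p = 1) (i j : ℕ) :
    planeE p z a (i : ZMod p) (j : ZMod p) = z ^ i * a ^ j := by
  unfold planeE
  rw [pow_val_natCast z hz, pow_val_natCast a ha]

theorem planeE_comm (z a : V) (x y : ZMod p) : planeE p z a x y = planeE p a z y x := by
  unfold planeE
  rw [mul_comm]

theorem transv_pow (u : MulAut V) (z a : V) (huz : u z = z) (k : ℕ) (hua : u a = z ^ k * a)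
    (n i j : ℕ) : (u ^ n) (z ^ i * a ^ j) = z ^ (i + k * n * j) * a ^ j := by
  induction n with
  | zero => simp
  | succ n ih =>
    rw [pow_succ', MulAut.mul_apply, ih, map_mul, map_pow, map_pow, huz, hua, mul_pow, ← pow_mul,
      ← mul_assoc, ← pow_add]
    congr 2
    ring

theorem exists_transv (A : Subgroup (MulAut V)) (u : MulAut V) (huA : u ∈ A) (z a : V)
    (hz : z ^ p = 1) (ha : a ^ p = 1) (huz : u z = z) (k : ℕ) (hk : (k : ZMod p) ≠ 0)
    (hua : u a = z ^ k * a) (x : ZMod p) :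
    ∃ U ∈ A, ∀ i j : ZMod p, U (planeE p z a i j) = planeE p z a (i + x * j) j := by
  refine ⟨u ^ ((x / k).val), pow_mem huA _, fun i j => ?_⟩
  conv_lhs => unfold planeE
  rw [transv_pow u z a huz k hua, ← planeE_nat z a hz ha]
  congr 1
  · push_cast
    rw [ZMod.natCast_zmod_val, ZMod.natCast_zmod_val, ZMod.natCast_zmod_val]
    field_simp
  · rw [ZMod.natCast_zmod_val]

variable [Finite V]

theorem plane_gen (hV : Nat.card V = p ^ 2) (hexp : ∀ x : V, x ^ p = 1) (z a : V) (hz1 : z ≠ 1)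
    (haz : a ∉ zpowers z) : zpowers z ⊔ zpowers a = ⊤ := by
  have hpp : p.Prime := Fact.out
  have hzc : Nat.card (zpowers z) = p := by
    rw [Nat.card_zpowers]; exact orderOf_eq_prime (hexp z) hz1
  have hlt : zpowers z < zpowers z ⊔ zpowers a := by
    refine lt_of_le_of_ne le_sup_left fun e => haz ?_
    rw [e]; exact le_sup_right (a := zpowers z) (mem_zpowers a)
  have h1 := card_lt_of_lt' hlt
  rw [hzc] at h1
  have h2 := card_subgroup_dvd_card (zpowers z ⊔ zpowers a)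
  rw [hV] at h2
  obtain ⟨k, hk, hk'⟩ := (Nat.dvd_prime_pow hpp).1 h2
  apply eq_top_of_card_eq
  rw [hV, hk']
  have : k = 2 := by
    by_contra hc
    have hk1 : k ≤ 1 := by omega
    have h5 : p ^ k ≤ p ^ 1 := Nat.pow_le_pow_right hpp.pos hk1
    rw [pow_one] at h5
    rw [hk'] at h1
    omega
  rw [this]

theorem aut_eq_one_of_fix (hV : Nat.card V = p ^ 2) (hexp : ∀ x : V, x ^ p = 1) (z a : V)
    (hz1 : z ≠ 1) (haz : a ∉ zpowers z) (u : MulAut V) (huz : u z = z) (hua : u a = a) : u = 1 := by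
  have h1 : zpowers z ⊔ zpowers a ≤ (MonoidHom.eqLocus u.toMonoidHom (MonoidHom.id V)) := by
    apply sup_le
    · rw [zpowers_le]; exact huz
    · rw [zpowers_le]; exact hua
  rw [plane_gen hV hexp z a hz1 haz] at h1
  ext x
  exact h1 (mem_top x)

/-- data of a nontrivial transvection -/
theorem exists_transv_data (hV : Nat.card V = p ^ 2) (hexp : ∀ x : V, x ^ p = 1) (z a : V)
    (hz1 : z ≠ 1) (haz : a ∉ zpowers z) (u : MulAut V) (m : ℕ) (hu : u ^ (p ^ m) = 1)
    (hu1 : u ≠ 1) (huz : u z = z) : ∃ k : ℕ, (k : ZMod p) ≠ 0 ∧ u a = z ^ k * a := by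
  have h1 := aut_comm_mem hV hexp u m hu z hz1 huz a
  have hfo : IsOfFinOrder z := isOfFinOrder_iff_pow_eq_one.2 ⟨p, (Fact.out : p.Prime).pos, hexp z⟩
  obtain ⟨k, hk⟩ := (hfo.mem_powers_iff_mem_zpowers).2 h1
  have hk' : z ^ k = u a * a⁻¹ := hk
  have e : u a = z ^ k * a := by rw [hk']; simp
  refine ⟨k, fun h0 => hu1 ?_, e⟩
  apply aut_eq_one_of_fix hV hexp z a hz1 haz u huz
  rw [e]
  rw [ZMod.natCast_eq_zero_iff] at h0
  obtain ⟨c, rfl⟩ := h0
  rw [pow_mul, hexp, one_pow, one_mul]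

theorem exists_torus (hV : Nat.card V = p ^ 2) (hexp : ∀ x : V, x ^ p = 1)
    (A : Subgroup (MulAut V)) (P₁ P₂ : Sylow p A) (hne : P₁ ≠ P₂) (z : V) (hz1 : z ≠ 1)
    (h1 : ∀ u ∈ P₁, (u : MulAut V) z = z) :
    ∃ a : V, a ∉ zpowers z ∧ ∀ t t' : ℕ, t * t' ≡ 1 [MOD p] →
      ∃ h ∈ A, h z = z ^ t ∧ h a = a ^ t' := by
  have hpp : p.Prime := Fact.out
  haveI : Finite (MulAut V) := Finite.of_injective (fun f : MulAut V => (f : V → V))
    (fun f g h => MulEquiv.ext (congrFun h))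
  -- fixed point of `P₂`
  obtain ⟨a, ha1, ha⟩ := exists_fixed_of_isPGroup hV ((P₂ : Subgroup A).map A.subtype)
    (P₂.isPGroup'.map A.subtype)
  have ha' : ∀ u ∈ P₂, (u : MulAut V) a = a := fun u hu => ha _ ⟨u, hu, rfl⟩
  have hzc : Nat.card (zpowers z) = p := by
    rw [Nat.card_zpowers]; exact orderOf_eq_prime (hexp z) hz1
  have haz : a ∉ zpowers z := by
    intro haz
    have h2 : zpowers a = zpowers z := by
      apply eq_of_le_of_card_ge ((zpowers_le).2 haz)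
      rw [hzc, Nat.card_zpowers, orderOf_eq_prime (hexp a) ha1]
    have h3 : z ∈ zpowers a := by rw [h2]; exact mem_zpowers z
    obtain ⟨i, hi⟩ := mem_zpowers_iff.1 h3
    apply hne
    apply sylow_eq_of_common_fixed hV hexp A P₁ P₂ z hz1 h1
    intro u hu
    rw [← hi, map_zpow, ha' u hu]
  have hza : z ∉ zpowers a := by
    intro hza
    have h2 : zpowers z = zpowers a := by
      apply eq_of_le_of_card_ge ((zpowers_le).2 hza)
      rw [hzc, Nat.card_zpowers, orderOf_eq_prime (hexp a) ha1]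
    exact haz (h2 ▸ mem_zpowers a)
  -- nontrivial elements
  have hnb : ∀ Q : Sylow p A, (Q : Subgroup A) ≠ ⊥ := by
    intro Q hQ
    have key : ∀ Q' : Sylow p A, (Q' : Subgroup A) = ⊥ := by
      intro Q'
      rw [← card_eq_one, Q'.card_eq_multiplicity, ← Q.card_eq_multiplicity, hQ]
      exact card_bot
    exact hne (Sylow.ext ((key P₁).trans (key P₂).symm))
  obtain ⟨u, huP, hu1⟩ := (Subgroup.ne_bot_iff_exists_ne_one).1 (hnb P₁) |>.elim
    (fun x hx => (⟨x.1, x.2, fun e => hx (Subtype.ext e)⟩ : ∃ u : A, u ∈ P₁ ∧ u ≠ 1))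
  obtain ⟨v, hvP, hv1⟩ := (Subgroup.ne_bot_iff_exists_ne_one).1 (hnb P₂) |>.elim
    (fun x hx => (⟨x.1, x.2, fun e => hx (Subtype.ext e)⟩ : ∃ u : A, u ∈ P₂ ∧ u ≠ 1))
  have hpow : ∀ (Q : Sylow p A) (w : A), w ∈ Q → ∃ m : ℕ, (w : MulAut V) ^ (p ^ m) = 1 := by
    intro Q w hw
    obtain ⟨m, hm⟩ := Q.isPGroup' ⟨w, hw⟩
    refine ⟨m, ?_⟩
    have := congrArg (fun y : Q => ((y : A) : MulAut V)) hm
    simpa using this
  obtain ⟨mu, hmu⟩ := hpow P₁ u huP
  obtain ⟨mv, hmv⟩ := hpow P₂ v hvP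
  obtain ⟨k, hk, hua⟩ := exists_transv_data hV hexp z a hz1 haz (u : MulAut V) mu hmu
    (fun e => hu1 (Subtype.ext e)) (h1 u huP)
  obtain ⟨l, hl, hvz⟩ := exists_transv_data hV hexp a z ha1 hza (v : MulAut V) mv hmv
    (fun e => hv1 (Subtype.ext e)) (ha' v hvP)
  refine ⟨a, haz, fun t t' htt => ?_⟩
  have htt' : (t : ZMod p) * (t' : ZMod p) = 1 := by
    have := (ZMod.natCast_eq_natCast_iff _ _ _).2 htt
    push_cast at this
    exact this
  have hU := exists_transv A u u.2 z a (hexp z) (hexp a) (h1 u huP) k hk hua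
  have hW := exists_transv A v v.2 a z (hexp a) (hexp z) (ha' v hvP) l hl hvz
  obtain ⟨U1, hU1A, hU1⟩ := hU (-1)
  obtain ⟨U2, hU2A, hU2⟩ := hU t
  obtain ⟨W1, hW1A, hW1⟩ := hW 1
  obtain ⟨W2, hW2A, hW2⟩ := hW (-t')
  have hW1' : ∀ i j : ZMod p, W1 (planeE p z a i j) = planeE p z a i (j + 1 * i) := by
    intro i j
    rw [planeE_comm, hW1, planeE_comm]
  have hW2' : ∀ i j : ZMod p, W2 (planeE p z a i j) = planeE p z a i (j + (-t') * i) := by
    intro i j
    rw [planeE_comm, hW2, planeE_comm]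
  refine ⟨U2 * W2 * U2 * U1 * W1 * U1,
    mul_mem (mul_mem (mul_mem (mul_mem (mul_mem hU2A hW2A) hU2A) hU1A) hW1A) hU1A, ?_, ?_⟩
  · have e1 : z = planeE p z a ((1 : ℕ) : ZMod p) ((0 : ℕ) : ZMod p) := by
      rw [planeE_nat z a (hexp z) (hexp a)]; simp
    have e2 : z ^ t = planeE p z a ((t : ℕ) : ZMod p) ((0 : ℕ) : ZMod p) := by
      rw [planeE_nat z a (hexp z) (hexp a)]; simp
    rw [e2]
    conv_lhs => rw [e1]
    simp only [MulAut.mul_apply]
    rw [hU1, hW1', hU1, hU2, hW2', hU2]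
    congr 1
    · push_cast; linear_combination (-(t : ZMod p)) * htt'
    · push_cast; linear_combination (-1 : ZMod p) * htt'
  · have e1 : a = planeE p z a ((0 : ℕ) : ZMod p) ((1 : ℕ) : ZMod p) := by
      rw [planeE_nat z a (hexp z) (hexp a)]; simp
    have e2 : a ^ t' = planeE p z a ((0 : ℕ) : ZMod p) ((t' : ℕ) : ZMod p) := by
      rw [planeE_nat z a (hexp z) (hexp a)]; simp
    rw [e2]
    conv_lhs => rw [e1]
    simp only [MulAut.mul_apply]
    rw [hU1, hW1', hU1, hU2, hW2', hU2]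
    congr 1
    · push_cast; linear_combination htt'
    · push_cast; ring

end

end Cfsg.Agent.Lib.Helper50
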