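import Mathlib

set_option autoImplicit false

namespace Cfsg.Agent.Lib.Helper50

open Polynomial in
/-- an endomorphism `T` of a nonzero finite-dimensional `𝔽_p`-space with `T ^ p = T` has an eigenvalue. -/
theorem exists_hasEigenvalue_of_pow_eq {p : ℕ} [Fact p.Prime] {V : Type*} [AddCommGroup V]
    [Module (ZMod p) V] [Module.Finite (ZMod p) V] [Nontrivial V] (T : Module.End (ZMod p) V)
    (hT : T ^ p = T) : ∃ μ : ZMod p, T.HasEigenvalue μ := by
  have hp : p.Prime := Fact.out
  have hdvd : minpoly (ZMod p) T ∣ (X ^ p - X : (ZMod p)[X]) := by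
    apply minpoly.dvd
    simp [hT]
  have hne : (X ^ p - X : (ZMod p)[X]) ≠ 0 := FiniteField.X_pow_card_sub_X_ne_zero _ hp.one_lt
  have hs : Splits (minpoly (ZMod p) T) := (GaloisField.splits_zmod_X_pow_sub_X p).of_dvd hne hdvd
  have hint : IsIntegral (ZMod p) T := Algebra.IsIntegral.isIntegral T
  obtain ⟨μ, hμ⟩ := hs.exists_eval_eq_zero (minpoly.degree_pos hint).ne'
  exact ⟨μ, Module.End.hasEigenvalue_of_isRoot hμ⟩

/-- additive version of `exists_map_eq_pow`. -/
theorem exists_map_eq_nsmul {p : ℕ} [Fact p.Prime] {V : Type*} [AddCommGroup V] [Finite V]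
    [Nontrivial V] [Module (ZMod p) V] (α : V →+ V) (hα : ∀ x, α^[p] x = α x) :
    ∃ v : V, v ≠ 0 ∧ ∃ m : ℕ, α v = m • v := by
  have : Module.Finite (ZMod p) V := Module.Finite.of_finite
  let T : Module.End (ZMod p) V := α.toZModLinearMap p
  have hTapp : ∀ x : V, T x = α x := fun x => rfl
  have hTpow : ∀ (k : ℕ) (x : V), (T ^ k) x = α^[k] x := by
    intro k
    induction k with
    | zero => intro x; rfl
    | succ k ih =>
      intro x
      rw [pow_succ, Module.End.mul_apply, ih, hTapp, Function.iterate_succ_apply]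
  have hT : T ^ p = T := by
    ext x
    rw [hTpow, hTapp, hα]
  obtain ⟨μ, hμ⟩ := exists_hasEigenvalue_of_pow_eq T hT
  obtain ⟨v, hv⟩ := hμ.exists_hasEigenvector
  refine ⟨v, hv.2, μ.val, ?_⟩
  have h1 : T v = μ • v := hv.apply_eq_smul
  have h2 : μ • v = μ.val • v := by
    conv_lhs => rw [← ZMod.natCast_zmod_val μ]
    exact Nat.cast_smul_eq_nsmul _ _ _
  rw [← hTapp, h1, h2]

/-- an endomorphism `α` of a nontrivial finite elementary abelian `p`-group with `α ^ p = α` maps some nontrivial
element to a power of itself. -/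
theorem exists_map_eq_pow {p : ℕ} [Fact p.Prime] {N : Type*} [CommGroup N] [Finite N] [Nontrivial N]
    (hexp : ∀ x : N, x ^ p = 1) (α : N →* N) (hα : ∀ x, α^[p] x = α x) :
    ∃ v : N, v ≠ 1 ∧ ∃ m : ℕ, α v = v ^ m := by
  let inst1 : Module (ZMod p) (Additive N) := AddCommGroup.zmodModule (n := p) (fun x => by
    induction x using Additive.rec with
    | _ x => rw [← ofMul_pow, hexp]; rfl)
  have hit : ∀ (k : ℕ) (x : Additive N),
      (MonoidHom.toAdditive α)^[k] x = Additive.ofMul (α^[k] x.toMul) := by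
    intro k
    induction k with
    | zero => intro x; rfl
    | succ k ih =>
      intro x
      rw [Function.iterate_succ_apply, ih, Function.iterate_succ_apply]
      rfl
  obtain ⟨v, hv, m, hm⟩ := exists_map_eq_nsmul (p := p) (MonoidHom.toAdditive α) (by
    intro x
    rw [hit, hα]
    rfl)
  refine ⟨v.toMul, ?_, m, ?_⟩
  · intro h
    exact hv (by rw [← ofMul_toMul v, h]; rfl)
  · have := congrArg Additive.toMul hm
    simpa using this

end Cfsg.Agent.Lib.Helper50
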