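import Cfsg.Agent.Lib.Helper50.EigenLine

set_option autoImplicit false

namespace Cfsg.Agent.Lib.Helper50

variable {G : Type*} [Group G]

open scoped IsMulCommutative in
/-- **Eigenvector lemma, one operator**: `g` normalizes a nontrivial elementary abelian `p`-subgroup `N` and
`g ^ (p - 1)` centralizes it; then `g` maps a nontrivial element of `N` to a power of itself. -/
theorem exists_conj_eq_pow [Finite G] {p : ℕ} [Fact p.Prime] (N : Subgroup G) [N.Normal]
    (hN : N ≠ ⊥) (hcomm : ∀ a ∈ N, ∀ b ∈ N, a * b = b * a) (hexp : ∀ a ∈ N, a ^ p = 1) (g : G)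
    (hpow : ∀ v ∈ N, g ^ (p - 1) * v * (g ^ (p - 1))⁻¹ = v) :
    ∃ v ∈ N, v ≠ 1 ∧ ∃ m : ℕ, g * v * g⁻¹ = v ^ m := by
  have hp : p.Prime := Fact.out
  have hc : IsMulCommutative N := ⟨⟨fun a b => Subtype.ext (hcomm a a.2 b b.2)⟩⟩
  have hnt : Nontrivial N := (Subgroup.nontrivial_iff_ne_bot N).mpr hN
  let α : N →* N := (MulAut.conjNormal g : MulAut N).toMonoidHom
  have hα1 : ∀ x : N, ((α x : N) : G) = g * x * g⁻¹ := fun x => MulAut.conjNormal_apply g x
  have hit : ∀ (k : ℕ) (x : N), ((α^[k] x : N) : G) = g ^ k * x * (g ^ k)⁻¹ := by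
    intro k
    induction k with
    | zero => intro x; simp
    | succ k ih =>
      intro x
      rw [Function.iterate_succ_apply, ih, hα1, pow_succ]
      group
  obtain ⟨v, hv, m, hm⟩ := exists_map_eq_pow (p := p) (N := N)
    (fun x => Subtype.ext (hexp x x.2)) α (by
      intro x
      apply Subtype.ext
      rw [hit, hα1]
      have h1 : p = (p - 1) + 1 := by have := hp.one_lt; omega
      have h2 : g ^ p = g * g ^ (p - 1) := by
        conv_lhs => rw [h1, pow_succ']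
      rw [h2]
      have h3 := hpow x x.2
      calc g * g ^ (p - 1) * ↑x * (g * g ^ (p - 1))⁻¹
          = g * (g ^ (p - 1) * x * (g ^ (p - 1))⁻¹) * g⁻¹ := by group
        _ = g * x * g⁻¹ := by rw [h3])
  refine ⟨v, v.2, fun h => hv (Subtype.ext h), m, ?_⟩
  rw [← hα1, hm]
  rfl

/-- **Eigenvector lemma**: a nontrivial normal elementary abelian `p`-subgroup `V` on which `G` acts as an abelian
group of exponent dividing `p - 1` contains a normal subgroup of `G` of order `p`. -/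
theorem exists_normal_card_eq_prime_le [Finite G] {p : ℕ} [Fact p.Prime] (V : Subgroup G)
    [V.Normal] (hV : V ≠ ⊥) (hcomm : ∀ a ∈ V, ∀ b ∈ V, a * b = b * a) (hexp : ∀ a ∈ V, a ^ p = 1)
    (hab : ∀ g h : G, ∀ v ∈ V, g * (h * v * h⁻¹) * g⁻¹ = h * (g * v * g⁻¹) * h⁻¹)
    (hpow : ∀ g : G, ∀ v ∈ V, g ^ (p - 1) * v * (g ^ (p - 1))⁻¹ = v) :
    ∃ N : Subgroup G, N ≤ V ∧ N.Normal ∧ Nat.card N = p := by
  have hp : p.Prime := Fact.out
  obtain ⟨N, hN⟩ := exists_minimal_of_wellFoundedLT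
    (fun N : Subgroup G => N ≤ V ∧ N.Normal ∧ N ≠ ⊥) ⟨V, le_rfl, inferInstance, hV⟩
  obtain ⟨hNV, hNn, hNb⟩ := hN.prop
  have key : ∀ g : G, ∃ m : ℕ, ∀ x ∈ N, g * x * g⁻¹ = x ^ m := by
    intro g
    obtain ⟨v, hvN, hv1, m, hm⟩ := exists_conj_eq_pow (p := p) N hNb
      (fun a ha b hb => hcomm a (hNV ha) b (hNV hb)) (fun a ha => hexp a (hNV ha)) g
      (fun v hv => hpow g v (hNV hv))
    refine ⟨m, ?_⟩
    let M : Subgroup G :=
      { carrier := {x | x ∈ N ∧ g * x * g⁻¹ = x ^ m}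
        one_mem' := ⟨N.one_mem, by simp⟩
        mul_mem' := by
          rintro x y ⟨hx, hx'⟩ ⟨hy, hy'⟩
          refine ⟨N.mul_mem hx hy, ?_⟩
          have hc : Commute x y := hcomm x (hNV hx) y (hNV hy)
          rw [hc.mul_pow, ← hx', ← hy']
          group
        inv_mem' := by
          rintro x ⟨hx, hx'⟩
          refine ⟨N.inv_mem hx, ?_⟩
          rw [inv_pow, ← hx']
          group }
    have hMN : M ≤ N := fun x hx => hx.1
    have hMn : M.Normal := by
      constructor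
      rintro x ⟨hx, hx'⟩ h
      refine ⟨hNn.conj_mem x hx h, ?_⟩
      rw [hab g h x (hNV hx), hx', conj_pow]
    have hMb : M ≠ ⊥ := by
      intro h
      have : v ∈ M := ⟨hvN, hm⟩
      rw [h] at this
      exact hv1 this
    have hle : N ≤ M := hN.le_of_le ⟨hMN.trans hNV, hMn, hMb⟩ hMN
    exact fun x hx => (hle hx).2
  obtain ⟨⟨v, hvN⟩, hv1'⟩ := Subgroup.ne_bot_iff_exists_ne_one.mp hNb
  have hv1 : v ≠ 1 := fun h => hv1' (Subtype.ext h)
  refine ⟨Subgroup.zpowers v, (Subgroup.zpowers_le.mpr hvN).trans hNV, ?_, ?_⟩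
  · constructor
    rintro _ ⟨k, rfl⟩ g
    obtain ⟨m, hm⟩ := key g
    change g * v ^ k * g⁻¹ ∈ Subgroup.zpowers v
    rw [← conj_zpow, hm v hvN]
    exact Subgroup.zpow_mem _ (Subgroup.pow_mem _ (Subgroup.mem_zpowers v) m) k
  · rw [Nat.card_zpowers]
    exact orderOf_eq_prime (hexp v (hNV hvN)) hv1

end Cfsg.Agent.Lib.Helper50
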