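import Cfsg.Agent.Lib.Helper50.NormalOrder

set_option autoImplicit false

namespace Cfsg.Agent.Lib.Helper50

open Cfsg.Agent.Lib.Helper9

variable {G : Type*} [Group G]

/-- a suitable `p`-power power of an element is a `p'`-element. -/
theorem exists_pow_prime_pow_coprime [Finite G] {p : ℕ} [Fact p.Prime] (y : G) :
    ∃ k : ℕ, (orderOf (y ^ p ^ k)).Coprime p := by
  have hp : p.Prime := Fact.out
  obtain ⟨k, m, hm, hkm⟩ := Nat.exists_eq_pow_mul_and_not_dvd (orderOf_pos y).ne' p hp.ne_one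
  refine ⟨k, ?_⟩
  have h1 : orderOf (y ^ p ^ k) = m := by
    rw [orderOf_pow_of_dvd (pow_pos hp.pos k).ne' ⟨m, hkm⟩, hkm,
      Nat.mul_div_cancel_left _ (pow_pos hp.pos k)]
  rw [h1]
  exact ((Nat.Prime.coprime_iff_not_dvd hp).mpr hm).symm

/-- an `ℋ`-subgroup contained in a normal `p`-subgroup is normal. -/
theorem IsH.normal_of_le_normal [Finite G] {p : ℕ} [Fact p.Prime] {F E : Subgroup G} (hF : IsH F)
    [hEn : E.Normal] (hE : IsPGroup p E) (hFE : F ≤ E) : F.Normal := by
  constructor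
  intro x hx g
  exact hF.conj_mem (hF.le_normalizer hE hFE) hx (hEn.conj_mem x (hFE hx) g)

/-- Let `E` be a normal `p`-subgroup of `G` with `G / E` supersolvable.  If `E` is cyclic, or all subgroups of `E` of
order `p ^ d` (`1 ≤ d`, `p ^ d < |E|`), and of order `4` if `p ^ d = 2`, are `ℋ`-subgroups of `G`, then `G` is
supersolvable. -/
theorem isSupersolvable_of_normal_pgroup_isH [Finite G] {p : ℕ} [Fact p.Prime] (E : Subgroup G)
    [E.Normal] (hE : IsPGroup p E) (hss : Cfsg.IsSupersolvable (G ⧸ E))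
    (h : IsCyclic E ∨ ∃ d : ℕ, 1 ≤ d ∧ p ^ d < Nat.card E ∧ ∀ F : Subgroup G, F ≤ E →
      (Nat.card F = p ^ d ∨ (p ^ d = 2 ∧ Nat.card F = 4)) → IsH F) :
    Cfsg.IsSupersolvable G := by
  have hp : p.Prime := Fact.out
  rcases h with hcyc | ⟨d, hd, hdE, hH⟩
  · exact isSupersolvable_of_cyclic_normal E hss
  · have hnE : ∀ y : G, y ∈ Subgroup.normalizer (E : Set G) := by
      intro y
      rw [Subgroup.normalizer_eq_top_iff.mpr inferInstance]
      exact Subgroup.mem_top y
    by_cases hp2 : p = 2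
    · refine isSupersolvable_of_stable E ⊤ hE le_top (fun _ _ => Subgroup.mem_top _)
        (fun _ => Subgroup.mem_top _) ?_ hss
      intro y _
      obtain ⟨k, hk⟩ := exists_pow_prime_pow_coprime (p := p) y
      exact ⟨k, mem_centralizer_of_card_gt (fun q hq _ => by rw [hp2]; exact hq.two_le) hE hd hH
        le_rfl hdE (hnE _) hk⟩
    · refine isSupersolvable_of_stable E (secKer p E) hE (le_secKer_of_isPGroup E hE)
        (comm_mem_secKer E) (pow_mem_secKer E) ?_ hss
      intro y hy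
      obtain ⟨k, hk⟩ := exists_pow_prime_pow_coprime (p := p) y
      exact ⟨k, mem_centralizer_of_mem_secKer hp2 hE hd hdE
        (fun F hFE hFc => (hH F hFE (Or.inl hFc)).normal_of_le_normal hE hFE)
        (Subgroup.pow_mem _ hy _) (hnE _) hk⟩

end Cfsg.Agent.Lib.Helper50
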