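import Mathlib
import Cfsg.Agent.Lib.Helper23.Off2
import Cfsg.Agent.Lib.Helper48.FF3
import Cfsg.Agent.Lib.Helper50.Hol
import Cfsg.Agent.Lib.Helper50.NormalOrder2

/-! Transport of best offenders on a normal elementary abelian subgroup `V` of `Y` to the holomorph of `V`,
where `Y / C_Y(V)` becomes a faithful subgroup, and the resulting four-group with an `S₃` action. -/

set_option autoImplicit false

namespace Cfsg.Agent.Lib.Helper50

open Subgroup Cfsg
open Cfsg.Agent.Lib.Helper23 Cfsg.Agent.Lib.Helper48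

theorem hS1_of_equiv {p : ℕ} {Z Z' : Type*} [Group Z] [Group Z'] [Finite Z] (e : Z ≃* Z')
    (h : centralizer (pPrimeCore p Z : Set Z) ≤ pPrimeCore p Z) :
    centralizer (pPrimeCore p Z' : Set Z') ≤ pPrimeCore p Z' := by
  have hm : (pPrimeCore p Z).map e.toMonoidHom = pPrimeCore p Z' := Cfsg.Agent.Lib.Lead.pPrimeCore_map_equiv e
  intro z hz
  rw [← hm]
  refine ⟨e.symm z, h ?_, by simp⟩
  rw [mem_centralizer_iff] at hz ⊢
  intro k hk
  have hk' : e k ∈ pPrimeCore p Z' := hm ▸ mem_map_of_mem e.toMonoidHom hk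
  have := hz (e k) hk'
  apply e.injective
  simpa using this

section
variable {Y : Type*} [Group Y] [Finite Y] (V : Subgroup Y) [V.Normal]

theorem bestOffender_map {p : ℕ} {A : Subgroup Y} (hA : IsBestOffenderOn p V A) :
    IsBestOffenderOn p (holV V) (A.map (holPsi V)) := by
  obtain ⟨hmax, hab, hpow⟩ := hA
  refine ⟨?_, ?_, ?_⟩
  · intro B' hB'
    set B : Subgroup Y := A ⊓ B'.comap (holPsi V) with hB
    have hBmap : B.map (holPsi V) = B' := by
      apply le_antisymm
      · rintro _ ⟨b, hb, rfl⟩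
        exact hb.2
      · intro z hz
        obtain ⟨a, ha, rfl⟩ := hB' hz
        exact ⟨a, ⟨ha, hz⟩, rfl⟩
    have hker : (holPsi V).ker ⊓ B = (holPsi V).ker ⊓ A := by
      apply le_antisymm
      · exact inf_le_inf_left _ inf_le_left
      · intro y hy
        refine ⟨hy.1, hy.2, ?_⟩
        show holPsi V y ∈ B'
        rw [MonoidHom.mem_ker.mp hy.1]
        exact one_mem _
    have h1 := card_map_mul_card_inf_ker (holPsi V) B
    have h2 := card_map_mul_card_inf_ker (holPsi V) A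
    rw [hker, hBmap] at h1
    have h3 := hmax B inf_le_left
    rw [← hBmap, card_holV_inf_centralizer_map, card_holV_inf_centralizer_map, hBmap]
    rw [← h1, ← h2] at h3
    have hpos : 0 < Nat.card ↥((holPsi V).ker ⊓ A) := Nat.card_pos
    apply Nat.le_of_mul_le_mul_right _ hpos
    calc Nat.card B' * Nat.card ↥(V ⊓ centralizer (B : Set Y)) * Nat.card ↥((holPsi V).ker ⊓ A)
        = Nat.card B' * Nat.card ↥((holPsi V).ker ⊓ A) * Nat.card ↥(V ⊓ centralizer (B : Set Y)) := by ring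
      _ ≤ Nat.card (A.map (holPsi V)) * Nat.card ↥((holPsi V).ker ⊓ A)
            * Nat.card ↥(V ⊓ centralizer (A : Set Y)) := h3
      _ = _ := by ring
  · rw [← map_commutator]
    have : ⁅A, A⁆ ≤ (holPsi V).ker := by rw [holPsi_ker]; exact hab
    rw [(Subgroup.map_eq_bot_iff _).mpr this]
    exact bot_le
  · rintro _ ⟨a, ha, rfl⟩
    rw [← map_pow, (holPsi_eq_one_iff V _).mpr (hpow a ha)]
    exact one_mem _

theorem offSetup_hol {p : ℕ} (hV : IsElementaryAbelian p V)
    (hS1 : centralizer (pPrimeCore p (Y ⧸ centralizer (V : Set Y)) : Set (Y ⧸ centralizer (V : Set Y)))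
      ≤ pPrimeCore p (Y ⧸ centralizer (V : Set Y))) :
    OffSetup p (holV V) (holPsi V).range := by
  refine ⟨⟨?_, ?_⟩, ?_, ?_, ?_⟩
  · have := hV.1
    exact Subgroup.range_isMulCommutative _
  · rintro _ ⟨v, rfl⟩
    rw [← map_pow]
    have : v ^ p = 1 := Subtype.ext (by simpa using hV.2 v v.2)
    rw [this, map_one]
  · exact le_trans le_top (normalizer_eq_top_iff.mpr inferInstance).ge
  · rw [eq_bot_iff]
    rintro _ ⟨⟨y, rfl⟩, hy⟩
    rw [mem_bot, holPsi_eq_one_iff]
    refine mem_centralizer_iff.mpr ?_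
    intro v hv
    have := mem_centralizer_iff.mp hy (SemidirectProduct.inl ⟨v, hv⟩) ⟨⟨v, hv⟩, rfl⟩
    exact (holPsi_commute_iff V y ⟨v, hv⟩).mp this
  · exact hS1_of_equiv ((QuotientGroup.quotientMulEquivOfEq (holPsi_ker V).symm).trans
      (QuotientGroup.quotientKerEquivRange (holPsi V))) hS1

/-- A best offender on `V` not centralizing `V` produces a four-subgroup `U ≤ V` and a `2`-element, an
element of odd order, both normalizing `U` and acting nontrivially on it. -/
theorem exists_fourGroup_of_bestOffender (hV : IsElementaryAbelian 2 V)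
    (hS1 : centralizer (pPrimeCore 2 (Y ⧸ centralizer (V : Set Y)) : Set (Y ⧸ centralizer (V : Set Y)))
      ≤ pPrimeCore 2 (Y ⧸ centralizer (V : Set Y)))
    (A : Subgroup Y) (hA : IsBestOffenderOn 2 V A) (hne : ¬ A ≤ centralizer (V : Set Y)) :
    ∃ U : Subgroup Y, U ≤ V ∧ Nat.card U = 4 ∧ ∃ a ∈ A, ∃ y : Y,
      a ∈ normalizer (U : Set Y) ∧ y ∈ normalizer (U : Set Y) ∧ a ∉ centralizer (U : Set Y) ∧
      y ∉ centralizer (U : Set Y) ∧ Odd (orderOf y) := by
  haveI : Fact (Nat.Prime 2) := ⟨Nat.prime_two⟩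
  have hs := offSetup_hol V hV hS1
  have hff : FF 2 (holV V) (holPsi V).range := ⟨hs.hV, hs.hHV, hs.hf, hs.hS1⟩
  set A' := A.map (holPsi V) with hA'
  have hA'H : A' ≤ (holPsi V).range := by
    rintro _ ⟨a, _, rfl⟩
    exact ⟨a, rfl⟩
  have hA'b : IsBestOffenderOn 2 (holV V) A' := bestOffender_map V hA
  have hA'1 : A' ≠ ⊥ := by
    intro h
    apply hne
    rw [← holPsi_ker]
    exact (Subgroup.map_eq_bot_iff _).mp h
  let 𝒮 : Set (Subgroup (Hol V)) := {B | B ≤ A' ∧ IsBestOffenderOn 2 (holV V) B ∧ ⁅holV V, B⁆ ≠ ⊥}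
  obtain ⟨B, hB, hBmin⟩ := Set.exists_min_image 𝒮 (fun B => Nat.card B) (Set.toFinite _)
    ⟨A', le_rfl, hA'b, hs.commutator_ne_bot hA'H hA'1⟩
  obtain ⟨hBA, hBb, hBV⟩ := hB
  have hBH : B ≤ (holPsi V).range := hBA.trans hA'H
  have hmin : ∀ C : Subgroup (Hol V), C ≤ B → IsBestOffenderOn 2 (holV V) C → ⁅holV V, C⁆ ≠ ⊥ → C = B := by
    intro C hCB hCb hCV
    exact eq_of_le_of_card_ge hCB (hBmin C ⟨hCB.trans hBA, hCb, hCV⟩)
  have hc : Nat.card B = 2 := hs.card_of_minimal hBH hBb hBV hmin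
  have hd := (hs.card_data hBH hBb hc).1
  have hx : ∃ x ∈ ppc 2 (holPsi V).range, x ∉ centralizer (B : Set (Hol V)) := by
    by_contra hcon
    push Not at hcon
    have h1 : B ≤ (holPsi V).range ⊓ centralizer (ppc 2 (holPsi V).range : Set (Hol V)) :=
      le_inf hBH (le_centralizer_iff.mp hcon)
    have h2 := card_dvd_of_le (h1.trans hff.centralizer_ppc_le)
    rw [hc] at h2
    exact not_dvd_card_ppc 2 _ h2
  obtain ⟨x, hx, hxB⟩ := hx
  have hTP : TP 2 (holV V) (holPsi V).range B x := ⟨hff, hBH, hc, hd, hx, hxB⟩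
  obtain ⟨a, ha, -, hane, -⟩ := hTP.exists_gen
  set W := ⁅holV V, B⁆ ⊔ ⁅holV V, Cfsg.Agent.Lib.Helper22.conjS x B⁆ with hW
  have hWV : W ≤ holV V := hTP.W_le
  have hWc : Nat.card W = 2 ^ 2 := hTP.card_W
  obtain ⟨a₀, ha₀, ha₀a⟩ := hBA ha
  obtain ⟨y₀, hy₀⟩ := ppc_le 2 _ (hTP.y_mem ha)
  obtain ⟨k, hk⟩ := exists_pow_prime_pow_coprime (p := 2) y₀
  refine ⟨holPull V W, holPull_le V W, by rw [card_holPull V hWV, hWc]; norm_num, a₀, ha₀, y₀ ^ 2 ^ k,
    ?_, ?_, ?_, ?_, ?_⟩
  · apply mem_normalizer_holPull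
    rw [ha₀a]
    exact hTP.E_le_normalizer (mem_sup_left ha)
  · apply mem_normalizer_holPull
    rw [map_pow, hy₀]
    exact pow_mem (hTP.E_le_normalizer (hTP.y_mem_E ha)) _
  · intro h
    have := holPsi_mem_centralizer V hWV h
    rw [ha₀a] at this
    exact hTP.a_not_cent ha hane this
  · intro h
    have h1 := holPsi_mem_centralizer V hWV h
    rw [map_pow, hy₀] at h1
    apply hTP.y_not_cent ha hane
    have hind : ∀ j : ℕ, (a⁻¹ * (x * a * x⁻¹)) ^ 2 ^ j ∈ centralizer (W : Set (Hol V)) →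
        a⁻¹ * (x * a * x⁻¹) ∈ centralizer (W : Set (Hol V)) := by
      intro j
      induction j with
      | zero => intro h; simpa using h
      | succ j ih =>
        intro h
        apply ih
        apply Cfsg.Agent.Lib.Helper22.mem_of_pow_mem (not_dvd_card_ppc 2 (holPsi V).range)
          (pow_mem (hTP.y_mem ha) _)
        rw [← pow_mul, ← pow_succ]
        exact h
    exact hind k h1
  · exact Nat.odd_iff.mpr (Nat.two_dvd_ne_zero.mp (fun h => by
      have := Nat.Coprime.eq_one_of_dvd hk.symm h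
      norm_num at this))

end

end Cfsg.Agent.Lib.Helper50
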