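import Mathlib
import Cfsg.Agent.Lib.Helper50.FFTransport
import Cfsg.Agent.Lib.Helper50.Involves
import Cfsg.Agent.Lib.Helper46.S4Section
import Cfsg.Agent.Lib.Helper10.Replacement
import Cfsg.Agent.Lib.Helper10.PAction
import Cfsg.Agent.Lib.Helper10.Thompson
import Cfsg.Agent.Lib.Helper10.MinNormal
import Cfsg.Agent.Lib.Lead.PStable

/-! Offenders on a normal elementary abelian `2`-subgroup force `S₄` to be involved. -/

set_option autoImplicit false

namespace Cfsg.Agent.Lib.Helper50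

open Subgroup Cfsg
open Cfsg.Agent.Lib.Helper10
open scoped commutatorElement

/-- a best offender that is a `2`-group and does not centralize `V` forces `S₄`. -/
theorem involves_perm4_of_bestOffender {Y : Type*} [Group Y] [Finite Y] (V : Subgroup Y) [V.Normal]
    (hV : IsElementaryAbelian 2 V)
    (hS1 : centralizer (pPrimeCore 2 (Y ⧸ centralizer (V : Set Y)) : Set (Y ⧸ centralizer (V : Set Y)))
      ≤ pPrimeCore 2 (Y ⧸ centralizer (V : Set Y)))
    (A : Subgroup Y) (hA2 : IsPGroup 2 A) (hA : IsBestOffenderOn 2 V A)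
    (hne : ¬ A ≤ centralizer (V : Set Y)) : Involves (Equiv.Perm (Fin 4)) Y := by
  obtain ⟨U, -, hU, a, ha, y, haN, hyN, haC, hyC, hy⟩ := exists_fourGroup_of_bestOffender V hV hS1 A hA hne
  obtain ⟨k, hk⟩ := hA2 ⟨a, ha⟩
  exact Cfsg.Agent.Lib.Helper46.S4Section.involves_perm4_of_fourGroup U hU a y haN hyN
    ⟨k, by simpa using congrArg Subtype.val hk⟩ hy haC hyC

/-- `C(O_{p'}) ≤ O_{p'}` in a group with a normal `p`-complement and trivial `O_p`. -/
theorem hS1_of_hasNormalPComplement {p : ℕ} [hp : Fact p.Prime] {Z : Type*} [Group Z] [Finite Z]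
    (h : HasNormalPComplement p Z) (hc : pCore p Z = ⊥) :
    centralizer (pPrimeCore p Z : Set Z) ≤ pPrimeCore p Z := by
  obtain ⟨k, hk⟩ := Cfsg.Agent.Lib.Lead.hasNormalPComplement_iff_index_pPrimeCore.mp h
  set N := pPrimeCore p Z with hN
  have hNn : N.Normal := inferInstance
  have hNp : ∀ g : Z, g ^ p ^ k ∈ N := fun g => by rw [← hk]; exact Subgroup.pow_index_mem N g
  intro d hd
  obtain ⟨k', m, hm, hkm⟩ := Nat.exists_eq_pow_mul_and_not_dvd (orderOf_pos d).ne' p hp.out.ne_one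
  have h1 : d ^ m ∈ pCore p Z := by
    apply Cfsg.Agent.Lib.Lead.mem_pCore_of_centralizes N (fun g => ⟨k, hNp g⟩) (d ^ m)
      ⟨k', by rw [← pow_mul, mul_comm, ← hkm, pow_orderOf_eq_one]⟩
    intro n hn
    have : Commute n d := mem_centralizer_iff.mp hd n hn
    exact (this.pow_right m).eq
  rw [hc, mem_bot] at h1
  have h2 : orderOf d ∣ m := orderOf_dvd_of_pow_eq_one h1
  have hcop : (p ^ k).Coprime (orderOf d) := by
    apply Nat.Coprime.pow_left
    exact Nat.Coprime.coprime_dvd_right h2 ((Nat.Prime.coprime_iff_not_dvd hp.out).mpr hm)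
  obtain ⟨j, hj⟩ := exists_pow_eq_self_of_coprime hcop
  rw [← hj]
  exact pow_mem (hNp d) _

/-- Quadratic replacement: if the abelian-on-`V` `2`-group `A` maximizes `|B| |C_V(B)|` among its subgroups and does not
centralize `V`, then `C_A([V,A])` is a best offender not centralizing `V`. -/
theorem bestOffender_of_mm_max {G : Type*} [Group G] [Finite G] {V A : Subgroup G}
    (hV : IsElementaryAbelian 2 V) (hAV : A ≤ normalizer (V : Set G))
    (hab : ⁅A, A⁆ ≤ centralizer (V : Set G)) (hA2 : IsPGroup 2 A)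
    (hmax : ∀ B : Subgroup G, B ≤ A → mm V B ≤ mm V A) (hne : ¬ A ≤ centralizer (V : Set G)) :
    IsBestOffenderOn 2 V (A ⊓ centralizer ((⁅V, A⁆ : Subgroup G) : Set G)) ∧
      ¬ A ⊓ centralizer ((⁅V, A⁆ : Subgroup G) : Set G) ≤ centralizer (V : Set G) := by
  haveI : Fact (Nat.Prime 2) := ⟨Nat.prime_two⟩
  have hVc := (isEA_iff.mp hV).1
  obtain ⟨h1, h2⟩ := replacement hVc hAV hab hmax V le_rfl
  set B := A ⊓ centralizer ((⁅V, A⁆ : Subgroup G) : Set G) with hB
  have hVA : ⁅V, A⁆ ≤ V := (le_normalizer_iff_commutator_le_left).mp hAV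
  refine ⟨⟨?_, ?_, ?_⟩, ?_⟩
  · intro X hX
    have : mm V X ≤ mm V B := by rw [h1]; exact hmax X (hX.trans inf_le_left)
    exact this
  · exact (commutator_mono inf_le_left inf_le_left).trans hab
  · intro a ha
    rw [mem_centralizer_iff]
    intro v hv
    have hw : ⁅v, a⁆ ∈ ⁅V, A⁆ := commutator_mem_commutator hv ha.1
    have hwa : ⁅v, a⁆ * a = a * ⁅v, a⁆ := mem_centralizer_iff.mp ha.2 _ hw
    have hw2 : ⁅v, a⁆ ^ 2 = 1 := hV.2 _ (hVA hw)
    have hwv : ⁅v, a⁆ * v = v * ⁅v, a⁆ := hVc _ (hVA hw) _ hv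
    -- `a v a⁻¹ = w⁻¹ v`
    have e1 : v * a = ⁅v, a⁆ * a * v := by rw [commutatorElement_def]; group
    calc v * a ^ 2 = (v * a) * a := by rw [pow_two, mul_assoc]
      _ = ⁅v, a⁆ * a * (v * a) := by rw [e1]; group
      _ = ⁅v, a⁆ * a * (⁅v, a⁆ * a * v) := by rw [← e1]
      _ = ⁅v, a⁆ * (a * ⁅v, a⁆) * a * v := by group
      _ = ⁅v, a⁆ * (⁅v, a⁆ * a) * a * v := by rw [hwa]
      _ = ⁅v, a⁆ ^ 2 * a ^ 2 * v := by simp only [pow_two, mul_assoc]
      _ = a ^ 2 * v := by rw [hw2, one_mul]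
  · intro hbot
    apply hne
    have hVeq : V = ⁅V, A⁆ ⊔ (V ⊓ centralizer (A : Set G)) := by
      rw [← h2]; exact (inf_eq_left.mpr (le_centralizer_iff.mp hbot)).symm
    have hbotc : ⁅V, A⁆ = ⊥ := by
      apply eq_bot_of_le_commutator_pAction (IsEA.isPGroup hV) hAV
        (fun a ha => by
          obtain ⟨k, hk⟩ := hA2 ⟨a, ha⟩
          refine ⟨k, ?_⟩
          have : a ^ 2 ^ k = 1 := by simpa using congrArg Subtype.val hk
          rw [this]; exact one_mem _) hVA
      have hn : ⁅V, A⁆ ≤ normalizer ((V ⊓ centralizer (A : Set G) : Subgroup G) : Set G) := by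
        refine le_trans ?_ (centralizer_le_normalizer _)
        intro x hx
        rw [mem_centralizer_iff]
        intro y hy
        exact hVc y hy.1 x (hVA hx)
      rw [commutator_le]
      intro v hv a ha
      rw [hVeq, ← SetLike.mem_coe, coe_mul_of_left_le_normalizer_right _ _ hn] at hv
      obtain ⟨w, hw, c, hc, rfl⟩ := hv
      have hca : a * c⁻¹ = c⁻¹ * a := by
        have h3 : c⁻¹ ∈ centralizer (A : Set G) := inv_mem hc.2
        exact (mem_centralizer_iff.mp h3) a ha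
      have e : ⁅w * c, a⁆ = ⁅w, a⁆ := by
        simp only [commutatorElement_def, mul_inv_rev]
        calc w * c * a * (c⁻¹ * w⁻¹) * a⁻¹ = w * c * (a * c⁻¹) * w⁻¹ * a⁻¹ := by group
          _ = w * c * (c⁻¹ * a) * w⁻¹ * a⁻¹ := by rw [hca]
          _ = w * a * w⁻¹ * a⁻¹ := by group
      rw [e]
      exact commutator_mem_commutator hw ha
    exact le_centralizer_iff.mp (commutator_eq_bot_iff_le_centralizer.mp hbotc)

/-- an element of order prime to `p` centralizing `Ω₁` of an abelian `p`-group it normalizes centralizes it. -/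
theorem mem_centralizer_of_centralizes_omegaSub {G : Type*} [Group G] [Finite G] {p : ℕ} [hp : Fact p.Prime]
    {Z : Subgroup G} (hZc : ∀ x ∈ Z, ∀ y ∈ Z, x * y = y * x) (hZp : IsPGroup p Z) {y : G}
    (hy : y ∈ normalizer (Z : Set G)) (hcop : (orderOf y).Coprime p)
    (hc : y ∈ centralizer (omegaSub p Z hZc : Set G)) : y ∈ centralizer (Z : Set G) := by
  set N := zpowers y with hN
  have hNZ : N ≤ normalizer (Z : Set G) := by rw [hN, zpowers_le]; exact hy
  have hZm : IsMulCommutative Z := ⟨⟨fun a b => Subtype.ext (hZc a a.2 b b.2)⟩⟩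
  have hdis : ⁅Z, N⁆ ⊓ centralizer (N : Set G) = ⊥ := by
    apply Cfsg.Agent.Lib.Helper48.commutator_inf_centralizer_eq_bot hZm hNZ
    intro v hv hv1
    obtain ⟨k, hk⟩ := hZp ⟨v, hv⟩
    have hk' : v ^ p ^ k = 1 := by simpa using congrArg Subtype.val hk
    rw [hN, Nat.card_zpowers] at hv1
    have := pow_gcd_eq_one.mpr ⟨hv1, hk'⟩
    rwa [(Nat.Coprime.pow_right k hcop).gcd_eq_one, pow_one] at this
  have hWZ : ⁅Z, N⁆ ≤ Z := le_normalizer_iff_commutator_le_left.mp hNZ
  have hbot : ⁅Z, N⁆ = ⊥ := by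
    by_contra hne
    have hWp : IsPGroup p ↥⁅Z, N⁆ := hZp.to_le hWZ
    obtain ⟨k, hk⟩ := hWp.exists_card_eq
    have hk0 : k ≠ 0 := by
      rintro rfl
      rw [pow_zero] at hk
      exact hne (card_eq_one.mp hk)
    have hdvd : p ∣ Nat.card ↥⁅Z, N⁆ := by rw [hk]; exact dvd_pow_self p hk0
    obtain ⟨w, hw⟩ := exists_prime_orderOf_dvd_card' p hdvd
    have hw1 : (w : G) ^ p = 1 := by
      have := pow_orderOf_eq_one w
      rw [hw] at this
      simpa using congrArg Subtype.val this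
    have hwΩ : (w : G) ∈ omegaSub p Z hZc := ⟨hWZ w.2, hw1⟩
    have hwN : (w : G) ∈ centralizer (N : Set G) := by
      have h5 : N ≤ centralizer ({(w : G)} : Set G) := by
        refine (zpowers_le (g := y)).mpr ?_
        rw [mem_centralizer_singleton_iff]
        exact (mem_centralizer_iff.mp hc _ hwΩ).symm
      rw [mem_centralizer_iff]
      intro n hn
      exact (mem_centralizer_singleton_iff.mp (h5 hn))
    have hw0 : (w : G) = 1 := mem_bot.mp (hdis ▸ (⟨w.2, hwN⟩ : (w : G) ∈ ⁅Z, N⁆ ⊓ centralizer (N : Set G)))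
    have : w = 1 := Subtype.ext hw0
    rw [this, orderOf_one] at hw
    exact hp.out.one_lt.ne hw
  have h3 : N ≤ centralizer (Z : Set G) :=
    le_centralizer_iff.mp (commutator_eq_bot_iff_le_centralizer.mp hbot)
  exact h3 (mem_zpowers y)

end Cfsg.Agent.Lib.Helper50
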