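import Cfsg.Agent.Lib.Helper50.Basic

set_option autoImplicit false

namespace Cfsg.Agent.Lib.Helper50

variable {G : Type*} [Group G]

/-- Relative Sylow: if `P` is a Sylow `p`-subgroup of `G` contained in `M`, every `p`-subgroup `Q` of `M`
is conjugate under `M` into `P`. -/
theorem exists_map_conj_le_sylow_of_le [Finite G] {p : ℕ} [Fact p.Prime] (P : Sylow p G)
    {M Q : Subgroup G} (hPM : (P : Subgroup G) ≤ M) (hQM : Q ≤ M) (hQ : IsPGroup p Q) :
    ∃ h ∈ M, Q.map (MulAut.conj h).toMonoidHom ≤ (P : Subgroup G) := by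
  have hQ' : IsPGroup p (Q.subgroupOf M) :=
    hQ.comap_of_injective M.subtype M.subtype_injective
  obtain ⟨S, hS⟩ := hQ'.exists_le_sylow
  obtain ⟨h, hh⟩ := MulAction.exists_smul_eq M S (P.subtype hPM)
  refine ⟨h, h.2, ?_⟩
  rintro _ ⟨z, hz, rfl⟩
  have h1 : (⟨z, hQM hz⟩ : M) ∈ (S : Subgroup M) := hS (by simpa [Subgroup.mem_subgroupOf] using hz)
  have h2 : MulAut.conj h • (⟨z, hQM hz⟩ : M) ∈ ((h • S : Sylow p M) : Subgroup M) := by
    rw [Sylow.coe_subgroup_smul]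
    exact Subgroup.smul_mem_pointwise_smul _ _ _ h1
  rw [hh, Sylow.coe_subtype, Subgroup.mem_subgroupOf] at h2
  simpa using h2

/-- every `p`-subgroup is conjugate into a given Sylow `p`-subgroup. -/
theorem exists_map_conj_le_sylow [Finite G] {p : ℕ} [Fact p.Prime] (P : Sylow p G)
    {Q : Subgroup G} (hQ : IsPGroup p Q) :
    ∃ h : G, Q.map (MulAut.conj h).toMonoidHom ≤ (P : Subgroup G) := by
  obtain ⟨h, _, hh⟩ := exists_map_conj_le_sylow_of_le P (M := ⊤) le_top le_top hQ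
  exact ⟨h, hh⟩

end Cfsg.Agent.Lib.Helper50
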