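import Cfsg.Agent.Lib.Helper50.RankTwoCore3
import Cfsg.Agent.Lib.Helper50.SylowConj
import Cfsg.Agent.Lib.Helper21.Rank
import Cfsg.Agent.Lib.Helper84.FusionNormSys
import Cfsg.Agent.S5090
import Cfsg.Agent.S5096
import Cfsg.Agent.S5077

/-! Saturated fusion systems on `p`-groups of rank `≤ 2`, `p > 3`: a fully normalized centric radical
subgroup whose automizer has no normal Sylow `p`-subgroup is elementary abelian of order `p ^ 2`. -/

set_option autoImplicit false

namespace Cfsg.Agent.Lib.Helper50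

open Subgroup Cfsg Cfsg.FusionSystem Cfsg.Agent.Lib.Helper84

theorem pRankLE_of_sylow {G : Type*} [Group G] [Finite G] {p k : ℕ} [Fact p.Prime] (T : Sylow p G)
    (h : PRankLE p k ↥(T : Subgroup G)) : PRankLE p k G := by
  intro A hc he
  have hA : IsPGroup p A := fun a => ⟨1, by rw [pow_one]; exact Subtype.ext (he a a.2)⟩
  obtain ⟨g, hg⟩ := exists_map_conj_le_sylow T hA
  have e := Subgroup.equivMapOfInjective A (MulAut.conj g).toMonoidHom (MulAut.conj g).injective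
  rw [Nat.card_congr e.toEquiv]
  apply (Cfsg.Agent.Lib.Helper21.pRankLE_subgroup_iff p k T).1 h _ hg
  · exact ⟨⟨fun a b => e.symm.injective (by rw [map_mul, map_mul]; exact hc.is_comm.comm _ _)⟩⟩
  · rintro _ ⟨a, ha, rfl⟩
    rw [← map_pow, he a ha, map_one]

universe u

variable {Ω : Type u} [Group Ω] {S : Subgroup Ω}

/-- an element inducing an automorphism of `P` normalizes `P` -/
theorem mem_normalizer_of_aut {P : Subgroup Ω} (δ : MulAut P) (g : Ω)
    (hg : ∀ x : P, ((δ x : P) : Ω) = g * (x : Ω) * g⁻¹) : g ∈ normalizer (P : Set Ω) := by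
  rw [mem_normalizer_iff]
  intro h
  constructor
  · intro hh
    rw [← hg ⟨h, hh⟩]; exact (δ _).2
  · intro hh
    obtain ⟨x, hx⟩ := δ.surjective ⟨_, hh⟩
    have h1 := hg x
    rw [hx] at h1
    have h2 : h = x := mul_left_cancel (mul_right_cancel h1)
    rw [h2]; exact x.2

/-- if `Aut_F(P)` has no normal Sylow `p`-subgroup and `P` is fully automized, then `P < N_S(P)` -/
theorem exists_normalizer_not_mem {p : ℕ} (F : FusionSystem S) {P : Subgroup Ω}
    (ha : F.IsFullyAutomized p P)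
    (hns : ¬ ∃ R : Sylow p (F.autGroup P), (R : Subgroup (F.autGroup P)).Normal) :
    ∃ s ∈ normalizerIn S P, s ∉ P := by
  by_contra hcon
  push Not at hcon
  obtain ⟨hPS, R, hR⟩ := ha
  apply hns
  refine ⟨R, ?_⟩
  rw [hR]
  constructor
  intro δ hδ α
  rw [mem_subgroupOf] at hδ ⊢
  obtain ⟨g, hg, hg'⟩ := (mem_autInducedBy_iff S P _).1 hδ
  have hgP : g ∈ P := hcon g ⟨hg, mem_normalizer_of_aut _ g hg'⟩
  rw [mem_autInducedBy_iff]
  refine ⟨((α : MulAut P) ⟨g, hgP⟩ : P), hPS (_ : P).2, fun y => ?_⟩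
  show ((((α : MulAut P) * (δ : MulAut P) * (α : MulAut P)⁻¹) y : P) : Ω) = _
  rw [MulAut.mul_apply, MulAut.mul_apply]
  have h1 : (δ : MulAut P) ((α : MulAut P)⁻¹ y) = ⟨g, hgP⟩ * ((α : MulAut P)⁻¹ y) * ⟨g, hgP⟩⁻¹ :=
    Subtype.ext (hg' _)
  rw [h1, map_mul, map_mul, map_inv, MulAut.apply_inv_self]
  rfl

theorem bad_elemAb [Finite S] {p : ℕ} [Fact p.Prime] (hS : IsPGroup p S) (hp : 3 < p)
    (hrank : ∀ E : Subgroup Ω, E ≤ S → IsElementaryAbelian p E → Nat.card E ≤ p ^ 2)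
    (F : FusionSystem S) (hF : F.IsSaturated p) (P : Subgroup Ω) (hn : F.IsFullyNormalized P)
    (hc : F.IsCentric P) (hr : F.IsRadical p P)
    (hns : ¬ ∃ R : Sylow p (F.autGroup P), (R : Subgroup (F.autGroup P)).Normal) :
    IsElementaryAbelian p P ∧ Nat.card P = p ^ 2 := by
  have hpp : p.Prime := Fact.out
  have hPS : P ≤ S := hc.1
  obtain ⟨E, hE⟩ := Cfsg.Agent.S5096.result F P hPS
  have hcon := constrained_normalizerSystem hS hF hn hc hE
  haveI : Finite (normalizerIn S P) := finite_of_le (normalizerIn_le S P)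
  have hS' : IsPGroup p (normalizerIn S P) := hS.to_le (normalizerIn_le S P)
  obtain ⟨G, _, ι, hM⟩ := Cfsg.Agent.S5090.result p hS' E hcon
  have hcore := pCore_model_normalizerSystem hS hc hr hE ι hM
  obtain ⟨hfinG, hreal, ⟨T, hT⟩, hC⟩ := hM
  have hinj : Function.Injective ι := hreal.1
  have hrG : PRankLE p 2 G := by
    apply pRankLE_of_sylow T
    rw [hT]
    apply Cfsg.Agent.Lib.Helper21.PRankLE.of_mulEquiv (MonoidHom.ofInjective hinj)
    rw [Cfsg.Agent.Lib.Helper21.pRankLE_subgroup_iff]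
    intro A hA h1 h2
    exact hrank A (hA.trans (normalizerIn_le S P)) ⟨h1, h2⟩
  have haut := (((Cfsg.Agent.S5077.result p hS F).1 hF).1 P hn).2
  obtain ⟨s, hsN, hsP⟩ := exists_normalizer_not_mem F haut hns
  obtain ⟨k, hk⟩ := hS' ⟨s, hsN⟩
  haveI := Cfsg.Agent.Lib.Lead.pCore_normal' p G
  have hmain := core_elemAb hp hrG (pCore p G) (Cfsg.Agent.Lib.Lead.pCore_isPGroup p G)
    (fun N hN hNp => Cfsg.Agent.Lib.Lead.le_pCore hN hNp) hC (ι ⟨s, hsN⟩) k
    (by rw [← map_pow, hk, map_one])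
    (by
      rw [hcore]
      rintro ⟨y, hy, hy'⟩
      have := hinj hy'
      rw [this] at hy
      exact hsP hy)
  rw [hcore] at hmain
  obtain ⟨⟨h1, h2⟩, h3⟩ := hmain
  have hPN : P ≤ normalizerIn S P := le_normalizerIn hPS
  -- transfer to `P`
  let e : P ≃* ↥((P.subgroupOf (normalizerIn S P)).map ι) :=
    (subgroupOfEquivOfLe hPN).symm.trans (equivMapOfInjective _ ι hinj)
  have hcP : IsMulCommutative P :=
    ⟨⟨fun a b => e.injective (by rw [map_mul, map_mul]; exact h1.is_comm.comm _ _)⟩⟩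
  have heP : ∀ a ∈ P, a ^ p = 1 := by
    intro a ha
    have h4 := h2 (e ⟨a, ha⟩) (e ⟨a, ha⟩).2
    have h5 : (e ⟨a, ha⟩) ^ p = 1 := Subtype.ext h4
    rw [← map_pow, EmbeddingLike.map_eq_one_iff] at h5
    exact congrArg Subtype.val h5
  have hcardle : Nat.card P ≤ p ^ 2 := by rw [Nat.card_congr e.toEquiv]; exact h3
  refine ⟨⟨hcP, heP⟩, ?_⟩
  haveI : Finite P := finite_of_le hPS
  haveI : Finite (MulAut P) := Finite.of_injective (fun f : MulAut P => (f : P → P))
    (fun f g h => MulEquiv.ext (congrFun h))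
  have htwo : ∃ P₁ P₂ : Sylow p (F.autGroup P), P₁ ≠ P₂ := by
    by_contra hcon
    push Not at hcon
    haveI : Subsingleton (Sylow p (F.autGroup P)) := ⟨hcon⟩
    obtain ⟨P₀⟩ : Nonempty (Sylow p (F.autGroup P)) := Sylow.nonempty
    exact hns ⟨P₀, Sylow.normal_of_subsingleton P₀⟩
  obtain ⟨P₁, P₂, hne⟩ := htwo
  exact card_eq_sq_of_two_sylows hcardle (hS.to_le hPS) (F.autGroup P) P₁ P₂ hne

end Cfsg.Agent.Lib.Helper50
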