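import Cfsg.Agent.Lib.Helper50.RankTwoAut3
import Cfsg.Agent.Lib.Helper50.Basic
import Cfsg.Agent.S0123

/-! An automorphism of a rank two `p`-group (`p > 3`) acting on a self-centralizing `C_p × C_p`
as a torus element of `SL₂(p)` of order `> 2` forces exponent `p` and order `p ^ 3`. -/

set_option autoImplicit false

namespace Cfsg.Agent.Lib.Helper50

open Subgroup
open scoped commutatorElement

section
variable {R : Type*} [Group R] [Finite R] {p : ℕ} [Fact p.Prime]

theorem AutCfg.pow_eq_one {P : Subgroup R} {z a : R} (h : AutCfg p P z a) (hR : IsPGroup p R)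
    (hp : 3 < p) (hr : Cfsg.PRankLE p 2 R) (ψ : R ≃* R) (t t' : ℕ)
    (hψz : ψ z = z ^ t) (hψa : ψ a = a ^ t') (htt : t * t' ≡ 1 [MOD p])
    (ht : ¬ t * t ≡ 1 [MOD p]) (c : R) : c ^ p = 1 := by
  by_contra hc
  have hpp : p.Prime := Fact.out
  obtain ⟨W, E, hWn, hEn, hWiff, hidx, hEW, hcomE, hEZ, hcase⟩ := h.struct hR hp hr c hc
  have hcW : c ∉ W := fun hx => hc ((hWiff c).1 hx)
  have hcomm_mem : ∀ x y : R, ⁅x, y⁆ ∈ E := fun x y => hcomE (by
    rw [commutator_def]; exact commutator_mem_commutator (mem_top x) (mem_top y))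
  have hclass : ⁅⁅commutator R, (⊤ : Subgroup R)⁆, (⊤ : Subgroup R)⁆ = ⊥ := by
    rw [commutator_eq_bot_iff_le_centralizer, coe_top, centralizer_univ]
    exact (commutator_mono hcomE le_rfl).trans hEZ
  have hder : commutator R ≤ closure {x : R | x ^ p = 1} := fun x hx =>
    subset_closure ((hWiff x).1 (hEW (hcomE hx)))
  have hpow := Cfsg.Agent.S0123.result hR (Or.inr ⟨hp, hclass⟩) hder
  obtain ⟨ν, w, hw, hψc⟩ := exists_pow_mul_of_index_prime W hidx hcW (ψ c)
  -- `c ^ p` is central
  have hy0 : c ^ p ∈ center R := by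
    rw [mem_center_iff]
    intro g
    have e1 : g * c ^ p * g⁻¹ = c ^ p := by
      rw [← conj_pow]
      have e2 : g * c * g⁻¹ = ⁅g, c⁆ * c := by simp only [commutatorElement_def]; group
      rw [e2, hpow, (hWiff _).1 (hEW (hcomm_mem g c)), one_mul]
    calc g * c ^ p = g * c ^ p * g⁻¹ * g := by group
      _ = c ^ p * g := by rw [e1]
  have hmap := h.map_center ψ t hψz
  have h1 : (c ^ p) ^ t = (c ^ p) ^ ν := by
    rw [← hmap _ hy0, map_pow, hψc, hpow, (hWiff w).1 hw, mul_one, ← pow_mul, ← pow_mul, mul_comm]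
  rw [pow_eq_pow_iff_modEq, h.orderOf_center hy0 hc] at h1
  have hZ : ∀ {m n : ℕ}, m ≡ n [MOD p] → (m : ZMod p) = n := fun hmn =>
    (ZMod.natCast_eq_natCast_iff _ _ _).2 hmn
  have e1 := hZ h1
  have e3 := hZ htt
  push_cast at e3
  apply ht
  apply (ZMod.natCast_eq_natCast_iff _ _ _).1
  push_cast
  have hcen : ∀ {x : R}, x ∈ center R → ∀ y : R, Commute x y := fun hx y =>
    (mem_center_iff.1 hx y).symm
  rcases hcase with ⟨hWP, hEP⟩ | ⟨hWT, hPE⟩
  · -- `P` normal
    have hz1c : ⁅a, c⁆ ∈ center R :=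
      hEZ (commutator_mem_commutator (hEP ▸ h.haP) (mem_top c))
    have hz1 : ⁅a, c⁆ ≠ 1 := by
      intro e
      rw [commutatorElement_eq_one_iff_commute] at e
      apply hcW
      rw [hWP, ← h.centralizer_a, mem_centralizer_singleton_iff]
      exact e.eq.symm
    have h2 : ⁅a, c⁆ ^ t = ⁅a, c⁆ ^ (t' * ν) := by
      rw [← hmap _ hz1c, map_commutatorElement, hψa, hψc]
      have hcw : Commute (a ^ t') w :=
        Commute.pow_left (h.comm a h.haP w (hWP ▸ hw)) t'
      rw [comm_mul_right_of_commute hcw, comm_pow_pow (hcen hz1c a) (hcen hz1c c)]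
    rw [pow_eq_pow_iff_modEq, h.orderOf_center hz1c hz1] at h2
    have e2 := hZ h2
    push_cast at e2
    linear_combination ((t : ZMod p) + 1) * (e2 - (t' : ZMod p) * e1 + e3)
  · -- `P` not normal
    set b := ⁅a, c⁆ with hb
    have hbE : b ∈ E := hcomm_mem a c
    have hz1c : ⁅a, b⁆ ∈ center R := by
      rw [← commutatorElement_inv]
      exact inv_mem (hEZ (commutator_mem_commutator hbE (mem_top a)))
    have hz1 : ⁅a, b⁆ ≠ 1 := by
      intro e
      rw [commutatorElement_eq_one_iff_commute] at e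
      have hbP : b ∈ P := by
        rw [← h.centralizer_a, mem_centralizer_singleton_iff]
        exact e.eq.symm
      apply hcW
      rw [hWT]
      apply mem_normalizer_of_map_conj_le
      have e0 : P.map (MulAut.conj c).toMonoidHom
          = (zpowers z ⊔ zpowers a).map (MulAut.conj c).toMonoidHom := by rw [h.gen]
      rw [e0, Subgroup.map_sup, MonoidHom.map_zpowers, MonoidHom.map_zpowers]
      apply sup_le
      · rw [zpowers_le]
        have : (MulAut.conj c).toMonoidHom z = z := by
          show c * z * c⁻¹ = z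
          rw [← (hcen h.hz c).eq, mul_inv_cancel_right]
        rw [this]; exact h.hzP
      · rw [zpowers_le]
        have : (MulAut.conj c).toMonoidHom a = b⁻¹ * a := by
          show c * a * c⁻¹ = b⁻¹ * a
          rw [hb]; simp only [commutatorElement_def]; group
        rw [this]; exact mul_mem (inv_mem hbP) h.haP
    let π := QuotientGroup.mk' (center R)
    have hπ : ∀ {x y : R}, ⁅x, y⁆ ∈ center R → Commute (π x) (π y) := by
      intro x y hxy
      rw [← commutatorElement_eq_one_iff_commute, ← map_commutatorElement]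
      exact (QuotientGroup.eq_one_iff _).2 hxy
    have hba : Commute ⁅π a, π c⁆ (π a) := by
      rw [← map_commutatorElement]
      exact hπ (hEZ (commutator_mem_commutator hbE (mem_top a)))
    have hbc : Commute ⁅π a, π c⁆ (π c) := by
      rw [← map_commutatorElement]
      exact hπ (hEZ (commutator_mem_commutator hbE (mem_top c)))
    have haw : Commute (π a) (π w) := by
      apply hπ
      apply hPE
      refine ⟨?_, hcomm_mem a w⟩
      have hwT : w ∈ normalizer (P : Set R) := hWT ▸ hw
      have e0 : ⁅a, w⁆ = a * (w * a⁻¹ * w⁻¹) := by simp only [commutatorElement_def]; group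
      rw [SetLike.mem_coe, e0]
      exact mul_mem h.haP ((mem_normalizer_iff.1 hwT _).1 (inv_mem h.haP))
    have e4 : π (ψ b) = π (b ^ (t' * ν)) := by
      rw [hb, map_commutatorElement, hψa, hψc, map_commutatorElement, map_pow, map_mul, map_pow,
        comm_mul_right_of_commute (haw.pow_left t'), comm_pow_pow hba hbc, map_pow,
        map_commutatorElement]
    have hζ : (b ^ (t' * ν))⁻¹ * ψ b ∈ center R := QuotientGroup.eq.1 e4.symm
    have e5 : ψ b = b ^ (t' * ν) * ((b ^ (t' * ν))⁻¹ * ψ b) := by group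
    have h2 : ⁅a, b⁆ ^ t = ⁅a, b⁆ ^ (t' * (t' * ν)) := by
      rw [← hmap _ hz1c, map_commutatorElement, hψa, e5,
        comm_mul_right_of_commute ((hcen hζ _).symm), comm_pow_pow (hcen hz1c a) (hcen hz1c b)]
    rw [pow_eq_pow_iff_modEq, h.orderOf_center hz1c hz1] at h2
    have e2 := hZ h2
    push_cast at e2
    linear_combination (t : ZMod p) * e2 + (t' : ZMod p) * (ν : ZMod p) * e3 - (t' : ZMod p) * e1 + e3

theorem AutCfg.card_eq {P : Subgroup R} {z a : R} (h : AutCfg p P z a) (hR : IsPGroup p R)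
    (hp : 3 < p) (hr : Cfsg.PRankLE p 2 R) (hexp : ∀ c : R, c ^ p = 1) : Nat.card R = p ^ 3 := by
  apply le_antisymm
  · have h1 : Om p (⊤ : Subgroup R) = ⊤ := eq_top_iff.2 fun x _ => mem_Om (mem_top x) (hexp x)
    have h2 := Om_card_le hp hr (hR.to_subgroup ⊤)
    rwa [h1, card_top] at h2
  · rw [← h.card_normalizer hR]
    exact Subgroup.card_le_card_group _

end

end Cfsg.Agent.Lib.Helper50
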