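import Cfsg.Agent.Lib.Helper50.FusRankTwo1
import Cfsg.Agent.Lib.Helper50.RankTwoAut4
import Cfsg.Agent.S5098
import Cfsg.Agent.S5106
import Cfsg.Agent.S5301

/-! Saturated fusion systems on `p`-groups of rank `≤ 2`, `p > 3`: the normalizer system of a central
subgroup of order `p` is the system of a normal Sylow subgroup. -/

set_option autoImplicit false

namespace Cfsg.Agent.Lib.Helper50

open Subgroup Cfsg Cfsg.FusionSystem Cfsg.Agent.Lib.Helper84

section
variable {V : Type*} [Group V] [Finite V] {p : ℕ} [Fact p.Prime]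

theorem exists_moved_of_two_sylows' (hcomm : ∀ x y : V, x * y = y * x) (hV : Nat.card V = p ^ 2)
    (hexp : ∀ x : V, x ^ p = 1)
    (A : Subgroup (MulAut V)) (P₁ P₂ : Sylow p A) (hne : P₁ ≠ P₂) (z : V) (hz1 : z ≠ 1) :
    ∃ α ∈ A, α z ∉ zpowers z := by
  letI inst : CommGroup V := { (inferInstance : Group V) with mul_comm := hcomm }
  exact exists_moved_of_two_sylows hV hexp A P₁ P₂ hne z hz1

theorem exists_torus' (hcomm : ∀ x y : V, x * y = y * x) (hV : Nat.card V = p ^ 2)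
    (hexp : ∀ x : V, x ^ p = 1)
    (A : Subgroup (MulAut V)) (P₁ P₂ : Sylow p A) (hne : P₁ ≠ P₂) (z : V) (hz1 : z ≠ 1)
    (h1 : ∀ u ∈ P₁, (u : MulAut V) z = z) :
    ∃ a : V, a ∉ zpowers z ∧ ∀ t t' : ℕ, t * t' ≡ 1 [MOD p] →
      ∃ h ∈ A, h z = z ^ t ∧ h a = a ^ t' := by
  letI inst : CommGroup V := { (inferInstance : Group V) with mul_comm := hcomm }
  exact exists_torus hV hexp A P₁ P₂ hne z hz1 h1

end

universe u

variable {Ω : Type u} [Group Ω] {S : Subgroup Ω}

theorem normalizerIn_zpowers_eq {z : Ω} (hzc : ∀ s ∈ S, s * z = z * s) :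
    normalizerIn S (zpowers z) = S := by
  apply le_antisymm (normalizerIn_le S _)
  intro s hs
  refine ⟨hs, ?_⟩
  have h1 : ∀ y ∈ zpowers z, s * y * s⁻¹ = y := by
    intro y hy
    obtain ⟨k, rfl⟩ := mem_zpowers_iff.1 hy
    have : Commute s z := hzc s hs
    rw [(this.zpow_right k).eq, mul_inv_cancel_right]
  show s ∈ normalizer ((zpowers z : Subgroup Ω) : Set Ω)
  rw [mem_normalizer_iff]
  intro y
  constructor
  · intro hy
    rw [h1 y hy]; exact hy
  · intro hy
    have h2 := h1 _ hy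
    have h3 : s * y * s⁻¹ = y := by
      have h4 : s * (s * y * s⁻¹) * s⁻¹ = s * y * s⁻¹ := h2
      exact mul_left_cancel (mul_right_cancel h4)
    rw [← h3]; exact hy

theorem fullyNormalized_zpowers [Finite S] (F : FusionSystem S) {z : Ω} (hzS : z ∈ S)
    (hzc : ∀ s ∈ S, s * z = z * s) : F.IsFullyNormalized (zpowers z) := by
  refine ⟨(zpowers_le).2 hzS, fun Q _ => ?_⟩
  rw [normalizerIn_zpowers_eq hzc]
  exact card_le_of_le (normalizerIn_le S Q)

theorem exists_two_sylows_of_not_normal {X : Type*} [Group X] [Finite X] {p : ℕ} [Fact p.Prime]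
    (hns : ¬ ∃ R : Sylow p X, (R : Subgroup X).Normal) (P₁ : Sylow p X) :
    ∃ P₂ : Sylow p X, P₁ ≠ P₂ := by
  by_contra hcon
  push Not at hcon
  haveI : Subsingleton (Sylow p X) := ⟨fun a b => (hcon a).symm.trans (hcon b)⟩
  exact hns ⟨P₁, Sylow.normal_of_subsingleton P₁⟩

theorem normalizerSystem_center_normal [Finite S] {p : ℕ} [Fact p.Prime] (hS : IsPGroup p S)
    (hp : 3 < p)
    (hrank : ∀ E : Subgroup Ω, E ≤ S → IsElementaryAbelian p E → Nat.card E ≤ p ^ 2)
    (F : FusionSystem S) (hF : F.IsSaturated p) {z : Ω} (hzS : z ∈ S)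
    (hzc : ∀ s ∈ S, s * z = z * s) (hz1 : z ≠ 1)
    (N : FusionSystem (normalizerIn S (zpowers z))) (hN : F.IsNormalizerSystem (zpowers z) N) :
    N.IsSaturated p ∧ N.IsNormal (normalizerIn S (zpowers z)) := by
  have hle : normalizerIn S (zpowers z) ≤ S := normalizerIn_le S _
  haveI : Finite (normalizerIn S (zpowers z)) := finite_of_le hle
  have hS' : IsPGroup p (normalizerIn S (zpowers z)) := hS.to_le hle
  have hsat : N.IsSaturated p :=
    Cfsg.Agent.S5098.result p hS F hF _ (fullyNormalized_zpowers F hzS hzc) N hN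
  refine ⟨hsat, ?_⟩
  apply Cfsg.Agent.S5301.result p hS' N hsat
  intro P hn hc hr
  by_contra hns
  obtain ⟨⟨hPc, hPe⟩, hPcard⟩ := bad_elemAb hS' hp
    (fun E hE hE' => hrank E (hE.trans hle) hE') N hsat P hn hc hr hns
  have hPS' : P ≤ normalizerIn S (zpowers z) := hc.1
  haveI : Finite P := finite_of_le hPS'
  haveI : Finite (MulAut P) := Finite.of_injective (fun f : MulAut P => (f : P → P))
    (fun f g h => MulEquiv.ext (congrFun h))
  have hzP : z ∈ P := by
    apply hc.2 P (isConj_refl N hPS')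
    refine ⟨?_, ?_⟩
    · rw [normalizerIn_zpowers_eq hzc]; exact hzS
    · show z ∈ centralizer (P : Set Ω)
      rw [mem_centralizer_iff]
      intro y hy
      exact hzc y (hle (hPS' hy))
  obtain ⟨P₁⟩ : Nonempty (Sylow p (N.autGroup P)) := Sylow.nonempty
  obtain ⟨P₂, hne⟩ := exists_two_sylows_of_not_normal hns P₁
  obtain ⟨α, hα, hαz⟩ := exists_moved_of_two_sylows' (fun x y => hPc.is_comm.comm x y) hPcard
    (fun x => Subtype.ext (hPe x x.2)) (N.autGroup P) P₁ P₂ hne ⟨z, hzP⟩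
    (fun e => hz1 (congrArg Subtype.val e))
  apply hαz
  rw [mem_autGroup_iff N hPS'] at hα
  unfold Mor at hα
  rw [hN] at hα
  obtain ⟨-, -, -, ψ, -, h3, h4⟩ := hα
  have h5 : ((α ⟨z, hzP⟩ : P) : Ω) ∈ zpowers z := by
    have h6 := h3 ⟨z, hzP⟩
    have h7 : ψ (Subgroup.inclusion le_sup_left ⟨z, hzP⟩) ∈ zpowers z :=
      h4.le ⟨_, mem_zpowers z, rfl⟩
    rw [h6] at h7
    exact h7
  obtain ⟨k, hk⟩ := mem_zpowers_iff.1 h5
  rw [mem_zpowers_iff]
  exact ⟨k, Subtype.ext hk⟩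

end Cfsg.Agent.Lib.Helper50
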