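import Cfsg.Agent.Lib.Helper50.FusRankTwo2

/-! Saturated fusion systems on `p`-groups of rank `≤ 2`, `p > 3`, are resistant unless
`S` is extraspecial of order `p ^ 3` and exponent `p`. -/

set_option autoImplicit false

namespace Cfsg.Agent.Lib.Helper50

open Subgroup Cfsg Cfsg.FusionSystem Cfsg.Agent.Lib.Helper84

universe u

variable {Ω : Type u} [Group Ω] {S : Subgroup Ω}

/-- a central element of order `p` -/
theorem exists_central_order_p [Finite S] {p : ℕ} [Fact p.Prime] (hS : IsPGroup p S)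
    (hne : S ≠ ⊥) : ∃ z ∈ S, (∀ s ∈ S, s * z = z * s) ∧ z ≠ 1 ∧ z ^ p = 1 := by
  haveI : Nontrivial S := (Subgroup.nontrivial_iff_ne_bot S).2 hne
  haveI := hS.center_nontrivial
  have h1 : p ∣ Nat.card (center S) := by
    obtain ⟨k, hk⟩ := (IsPGroup.iff_card).1 (hS.to_subgroup (center S))
    rw [hk]
    rcases k with _ | k
    · exfalso
      rw [pow_zero] at hk
      have := (Nat.card_eq_one_iff_unique.1 hk).1
      exact not_subsingleton (center S) this
    · exact dvd_pow_self p (Nat.succ_ne_zero k)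
  obtain ⟨z, hz⟩ := exists_prime_orderOf_dvd_card' p h1
  refine ⟨((z : S) : Ω), (z : S).2, fun s hs => ?_, ?_, ?_⟩
  · have := mem_center_iff.1 z.2 ⟨s, hs⟩
    exact congrArg Subtype.val this
  · intro e
    have h2 : z = 1 := Subtype.ext (Subtype.ext e)
    rw [h2, orderOf_one] at hz
    exact (Fact.out : p.Prime).one_lt.ne hz
  · have h2 : z ^ p = 1 := by rw [← hz]; exact pow_orderOf_eq_one z
    have := congrArg (fun y : center S => ((y : S) : Ω)) h2
    simpa using this

theorem isNormal_of_rank_two [Finite S] {p : ℕ} [Fact p.Prime] (hS : IsPGroup p S) (hp : 3 < p)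
    (hrank : ∀ E : Subgroup Ω, E ≤ S → IsElementaryAbelian p E → Nat.card E ≤ p ^ 2)
    (F : FusionSystem S) (hF : F.IsSaturated p)
    (hnotE : ¬ (Nat.card S = p ^ 3 ∧ Monoid.exponent ↥S = p)) : F.IsNormal S := by
  have hpp : p.Prime := Fact.out
  apply Cfsg.Agent.S5301.result p hS F hF
  intro P hn hc hr
  by_contra hns
  obtain ⟨⟨hPc, hPe⟩, hPcard⟩ := bad_elemAb hS hp hrank F hF P hn hc hr hns
  have hPS : P ≤ S := hc.1
  haveI : Finite P := finite_of_le hPS
  haveI : Finite (MulAut P) := Finite.of_injective (fun f : MulAut P => (f : P → P))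
    (fun f g h => MulEquiv.ext (congrFun h))
  have hSne : S ≠ ⊥ := by
    intro e
    rw [e, le_bot_iff] at hPS
    rw [hPS, card_bot] at hPcard
    have := hpp.one_lt
    nlinarith
  obtain ⟨z, hzS, hzc, hz1, hzp⟩ := exists_central_order_p hS hSne
  have hcen : centralizerIn S P ≤ P := hc.2 P (isConj_refl F hPS)
  have hzP : z ∈ P := by
    apply hcen
    refine ⟨hzS, ?_⟩
    show z ∈ centralizer (P : Set Ω)
    rw [mem_centralizer_iff]
    intro y hy
    exact hzc y (hPS hy)
  have hZS : zpowers z ≤ S := (zpowers_le).2 hzS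
  have hZP : zpowers z ≤ P := (zpowers_le).2 hzP
  obtain ⟨N, hN⟩ := Cfsg.Agent.S5096.result F (zpowers z) hZS
  obtain ⟨hNsat, hNnorm⟩ := normalizerSystem_center_normal hS hp hrank F hF hzS hzc hz1 N hN
  have hSeq : normalizerIn S (zpowers z) = S := normalizerIn_zpowers_eq hzc
  have hle : normalizerIn S (zpowers z) ≤ S := normalizerIn_le S _
  haveI : Finite (normalizerIn S (zpowers z)) := finite_of_le hle
  have hS' : IsPGroup p (normalizerIn S (zpowers z)) := hS.to_le hle
  have hPS' : P ≤ normalizerIn S (zpowers z) := by rw [hSeq]; exact hPS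
  -- the torus
  have haut := (((Cfsg.Agent.S5077.result p hS F).1 hF).1 P hn).2
  obtain ⟨s, hsN, hsP⟩ := exists_normalizer_not_mem F haut hns
  obtain ⟨-, R₁, hR₁⟩ := haut
  obtain ⟨R₂, hne⟩ := exists_two_sylows_of_not_normal hns R₁
  obtain ⟨a, haz, htor⟩ := exists_torus' (fun x y => hPc.is_comm.comm x y) hPcard
    (fun x => Subtype.ext (hPe x x.2)) (F.autGroup P) R₁ R₂ hne ⟨z, hzP⟩
    (fun e => hz1 (congrArg Subtype.val e)) (by
      intro u hu
      have hu' : u ∈ (R₁ : Subgroup (F.autGroup P)) := hu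
      rw [hR₁, mem_subgroupOf] at hu'
      obtain ⟨g, hg, hg'⟩ := (mem_autInducedBy_iff S P _).1 hu'
      apply Subtype.ext
      rw [hg']
      show g * z * g⁻¹ = z
      rw [hzc g hg, mul_inv_cancel_right])
  have hodd : Odd p := hpp.odd_of_ne_two (by omega)
  obtain ⟨m, hm⟩ := hodd
  have htt : 2 * (m + 1) ≡ 1 [MOD p] := by
    have : 2 * (m + 1) = 1 + p := by omega
    rw [this]
    exact Nat.add_modEq_right
  have ht : ¬ 2 * 2 ≡ 1 [MOD p] := by
    intro h
    have h1 := (Nat.modEq_iff_dvd' (by norm_num : 1 ≤ 2 * 2)).1 h.symm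
    have := Nat.le_of_dvd (by norm_num) h1
    omega
  obtain ⟨h, hhA, hhz, hha⟩ := htor 2 (m + 1) htt
  have hφ : P.subtype.comp h.toMonoidHom ∈ F.Hom P := (mem_autGroup_iff F hPS h).1 hhA
  have hφN : P.subtype.comp h.toMonoidHom ∈ N.Hom P := by
    rw [hN]
    refine ⟨hφ, hPS', fun x => hPS' (h x).2,
      (P.subtype.comp h.toMonoidHom).comp (Subgroup.inclusion (sup_le le_rfl hZP)),
      restrict_mem F hφ _, fun x => rfl, ?_⟩
    have hle1 : ((zpowers z).subgroupOf (P ⊔ zpowers z)).map
        ((P.subtype.comp h.toMonoidHom).comp (Subgroup.inclusion (sup_le le_rfl hZP))) ≤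
        zpowers z := by
      rintro _ ⟨x, hx, rfl⟩
      obtain ⟨k, hk⟩ := mem_zpowers_iff.1 (mem_subgroupOf.1 hx)
      have h1 : Subgroup.inclusion (sup_le le_rfl hZP) x = (⟨z, hzP⟩ : P) ^ k :=
        Subtype.ext hk.symm
      show ((h (Subgroup.inclusion (sup_le le_rfl hZP) x) : P) : Ω) ∈ zpowers z
      rw [h1, map_zpow, hhz]
      exact zpow_mem (pow_mem (mem_zpowers z) 2) k
    haveI : Finite (zpowers z) := finite_of_le hZS
    apply eq_of_le_of_card_ge hle1
    rw [card_map_of_injective]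
    · exact (Nat.card_congr (subgroupOfEquivOfLe le_sup_right).toEquiv).symm.le
    · exact (F.injective_of_mem hφ).comp (Subgroup.inclusion_injective _)
  obtain ⟨α, -, hα⟩ := (Cfsg.Agent.S5106.result p hS' N hNsat _ le_rfl).1 hNnorm P hPS' _ hφN
  -- the configuration
  have hzS' : z ∈ normalizerIn S (zpowers z) := hPS' hzP
  have hcfg : AutCfg p (P.subgroupOf (normalizerIn S (zpowers z))) (⟨z, hzS'⟩ : normalizerIn S (zpowers z))
      ⟨a, hPS' a.2⟩ := by
    refine ⟨?_, ?_, ?_, ?_, ?_, ?_, ?_, ?_, ?_⟩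
    · rw [Nat.card_congr (subgroupOfEquivOfLe hPS').toEquiv]; exact hPcard
    · intro x hx
      exact Subtype.ext (hPe x hx)
    · intro x hx
      rw [mem_subgroupOf]
      apply hcen
      refine ⟨hle x.2, ?_⟩
      show (x : Ω) ∈ centralizer (P : Set Ω)
      rw [mem_centralizer_iff]
      intro y hy
      have := (mem_centralizer_iff.1 hx) ⟨y, hPS' hy⟩ hy
      exact congrArg Subtype.val this
    · intro e
      have hs' : s ∈ normalizerIn S (zpowers z) := by rw [hSeq]; exact hsN.1
      have : (⟨s, hs'⟩ : normalizerIn S (zpowers z)) ∈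
          P.subgroupOf (normalizerIn S (zpowers z)) := by rw [e]; exact mem_top _
      exact hsP this
    · rw [mem_center_iff]
      intro g
      exact Subtype.ext (hzc g (hle g.2))
    · intro e
      exact hz1 (congrArg Subtype.val e)
    · exact hzP
    · exact a.2
    · intro e
      obtain ⟨k, hk⟩ := mem_zpowers_iff.1 e
      apply haz
      rw [mem_zpowers_iff]
      refine ⟨k, Subtype.ext ?_⟩
      have := congrArg Subtype.val hk
      simpa using this
  have hrR : PRankLE p 2 (normalizerIn S (zpowers z)) := by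
    rw [Cfsg.Agent.Lib.Helper21.pRankLE_subgroup_iff]
    intro A hA h1 h2
    exact hrank A (hA.trans hle) ⟨h1, h2⟩
  have hexp : ∀ c : normalizerIn S (zpowers z), c ^ p = 1 := by
    apply hcfg.pow_eq_one hS' hp hrR α 2 (m + 1) ?_ ?_ htt ht
    · apply Subtype.ext
      have h1 := hα ⟨z, hzP⟩
      have h2 : ((h ⟨z, hzP⟩ : P) : Ω) = z ^ 2 := by rw [hhz]; rfl
      exact h1.trans h2
    · apply Subtype.ext
      have h1 := hα a
      have h2 : ((h a : P) : Ω) = (a : Ω) ^ (m + 1) := by rw [hha]; rfl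
      exact h1.trans h2
  have hcard := hcfg.card_eq hS' hp hrR hexp
  have hfinal : Nat.card (normalizerIn S (zpowers z)) = p ^ 3 ∧
      Monoid.exponent ↥(normalizerIn S (zpowers z)) = p := by
    refine ⟨hcard, ?_⟩
    have h1 : Monoid.exponent ↥(normalizerIn S (zpowers z)) ∣ p :=
      Monoid.exponent_dvd_of_forall_pow_eq_one hexp
    rcases (Nat.dvd_prime hpp).1 h1 with h2 | h2
    · exfalso
      have h3 := Monoid.pow_exponent_eq_one (⟨z, hzS'⟩ : normalizerIn S (zpowers z))
      rw [h2, pow_one] at h3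
      exact hz1 (congrArg Subtype.val h3)
    · exact h2
  rw [hSeq] at hfinal
  exact hnotE hfinal

end Cfsg.Agent.Lib.Helper50
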