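import Cfsg.Agent.Lib.Helper50.SmallPrime
import Cfsg.Agent.Lib.Helper50.OmegaTwo
import Cfsg.Agent.Lib.Helper1.Frattini
import Cfsg.Agent.S0029

set_option autoImplicit false

namespace Cfsg.Agent.Lib.Helper50

variable {G : Type*} [Group G]

/-- `E` is an `ℋ`-subgroup of `G`: `E^g ∩ N_G(E) ≤ E` for all `g`. -/
def IsH (E : Subgroup G) : Prop :=
  ∀ g : G, E.map (MulAut.conj g).toMonoidHom ⊓ Subgroup.normalizer (E : Set G) ≤ E

/-- an `ℋ`-subgroup is normal in every `p`-subgroup containing it. -/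
theorem IsH.le_normalizer [Finite G] {p : ℕ} [Fact p.Prime] {E Q : Subgroup G} (hE : IsH E)
    (hQ : IsPGroup p Q) (hEQ : E ≤ Q) : Q ≤ Subgroup.normalizer (E : Set G) := by
  by_contra hcon
  have hlt : Q ⊓ Subgroup.normalizer (E : Set G) < Q :=
    lt_of_le_of_ne inf_le_left (fun h => hcon (h ▸ inf_le_right))
  obtain ⟨g, hgQ, hgN, hgn⟩ := exists_mem_normalizer_of_lt hQ hlt
  apply hgN
  refine ⟨hgQ, ?_⟩
  apply mem_normalizer_of_map_conj_le
  intro x hx
  apply hE g
  refine ⟨hx, ?_⟩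
  obtain ⟨e, he, rfl⟩ := hx
  have : g * e * g⁻¹ ∈ Q ⊓ Subgroup.normalizer (E : Set G) :=
    (Subgroup.mem_normalizer_iff.mp hgn e).mp ⟨hEQ he, Subgroup.le_normalizer he⟩
  exact this.2

/-- an `ℋ`-subgroup is strongly closed in every subgroup normalizing it. -/
theorem IsH.conj_mem {E Q : Subgroup G} (hE : IsH E) (hQ : Q ≤ Subgroup.normalizer (E : Set G))
    {x g : G} (hx : x ∈ E) (hg : g * x * g⁻¹ ∈ Q) : g * x * g⁻¹ ∈ E :=
  hE g ⟨conj_mem_map_conj hx, hQ hg⟩

/-- facts on maximal subgroups of a `p`-subgroup. -/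
theorem coatom_facts [Finite G] {p : ℕ} [Fact p.Prime] {Y M : Subgroup G} (hY : IsPGroup p Y)
    (hMY : M ≤ Y) (hM : IsCoatom (M.subgroupOf Y)) :
    Y ≤ Subgroup.normalizer (M : Set G) ∧ M.relIndex Y = p ∧ Nat.card M * p = Nat.card Y := by
  have hn : (M.subgroupOf Y).Normal := Cfsg.Agent.Lib.Helper1.IsPGroup.normal_of_isCoatom hY hM
  have hi : (M.subgroupOf Y).index = p := Cfsg.Agent.Lib.Helper1.IsPGroup.index_of_isCoatom hY hM
  refine ⟨(Subgroup.normal_subgroupOf_iff_le_normalizer hMY).mp hn, hi, ?_⟩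
  have h1 := (M.subgroupOf Y).card_mul_index
  rw [hi] at h1
  rw [← h1]
  congr 1
  exact (Nat.card_congr (Subgroup.subgroupOfEquivOfLe hMY).toEquiv).symm

/-- a `p'`-element normalizing a `p`-subgroup `Y` and all its maximal subgroups centralizes `Y`
(`p` the smallest prime divisor of `|G|`). -/
theorem mem_centralizer_of_normalizes_coatoms [Finite G] {p : ℕ} [Fact p.Prime]
    (hmin : ∀ q : ℕ, q.Prime → q ∣ Nat.card G → p ≤ q) {Y : Subgroup G} (hY : IsPGroup p Y) {y : G}
    (hy : y ∈ Subgroup.normalizer (Y : Set G)) (hcop : (orderOf y).Coprime p)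
    (hmax : ∀ M : Subgroup G, M ≤ Y → IsCoatom (M.subgroupOf Y) →
      y ∈ Subgroup.normalizer (M : Set G)) : y ∈ Subgroup.centralizer (Y : Set G) := by
  have h := Cfsg.Agent.S0029.result (Subgroup.zpowers y) Y (by rw [Subgroup.zpowers_le]; exact hy)
    (by
      obtain ⟨k, hk⟩ := (hY.to_subgroup (frattini Y)).exists_card_eq
      rw [Nat.card_zpowers, hk]
      exact Nat.Coprime.pow_right k hcop)
    (by
      intro a ha k hk
      have haY : a ∈ Subgroup.normalizer (Y : Set G) :=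
        (Subgroup.zpowers_le.mpr hy) ha
      have hz : a * k * a⁻¹ * k⁻¹ ∈ Y :=
        Y.mul_mem ((Subgroup.mem_normalizer_iff.mp haY k).mp hk) (Y.inv_mem hk)
      refine ⟨⟨_, hz⟩, ?_, rfl⟩
      rw [SetLike.mem_coe, Cfsg.Agent.Lib.Helper1.mem_frattini_iff]
      intro M' hM'
      have hMM : (M'.map Y.subtype).subgroupOf Y = M' :=
        Subgroup.comap_map_eq_self_of_injective Y.subtype_injective M'
      have hMY : M'.map Y.subtype ≤ Y := Subgroup.map_subtype_le M'
      have hco : IsCoatom ((M'.map Y.subtype).subgroupOf Y) := by rw [hMM]; exact hM'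
      obtain ⟨f1, f2, -⟩ := coatom_facts hY hMY hco
      have haM : a ∈ Subgroup.normalizer ((M'.map Y.subtype : Subgroup G) : Set G) :=
        (Subgroup.zpowers_le.mpr (hmax _ hMY hco)) ha
      have := conj_mul_inv_mem_of_relIndex_eq hmin hMY f1 f2 haY haM hk
      rw [← hMM, Subgroup.mem_subgroupOf]
      exact this)
  exact h (Subgroup.mem_zpowers y)

end Cfsg.Agent.Lib.Helper50
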