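import Cfsg.Agent.Lib.Helper50.HSub

set_option autoImplicit false

namespace Cfsg.Agent.Lib.Helper50

variable {G : Type*} [Group G]

/-- the order of a proper subgroup of a group of order `p ^ (d + 1)` is at most `p ^ d`. -/
theorem card_le_pow_of_lt [Finite G] {p : ℕ} [Fact p.Prime] {A Y : Subgroup G} (hY : IsPGroup p Y)
    {d : ℕ} (hcard : Nat.card Y = p ^ (d + 1)) (hlt : A < Y) : Nat.card A ≤ p ^ d := by
  have hp : p.Prime := Fact.out
  obtain ⟨a, ha⟩ := (hY.to_le hlt.le).exists_card_eq
  have h1 : Nat.card A < Nat.card Y := by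
    have : (A : Set G) ⊂ (Y : Set G) := hlt
    exact Set.ncard_lt_ncard this (Set.toFinite _)
  rw [ha, hcard] at h1
  rw [ha]
  have h2 : a < d + 1 := (Nat.pow_lt_pow_iff_right hp.one_lt).mp h1
  exact Nat.pow_le_pow_right hp.pos (by omega)

/-- the order of a `p`-group exceeding `p ^ d` is at least `p ^ (d + 1)`. -/
theorem pow_succ_le_card_of_lt [Finite G] {p : ℕ} [Fact p.Prime] {T : Subgroup G}
    (hT : IsPGroup p T) {d : ℕ} (hlt : p ^ d < Nat.card T) : p ^ (d + 1) ≤ Nat.card T := by
  have hp : p.Prime := Fact.out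
  obtain ⟨a, ha⟩ := hT.exists_card_eq
  rw [ha] at hlt ⊢
  have h2 : d < a := (Nat.pow_lt_pow_iff_right hp.one_lt).mp hlt
  exact Nat.pow_le_pow_right hp.pos (by omega)

/-- **(Σ)** Let `p` be the smallest prime divisor of `|G|` and `P` a `p`-subgroup all of whose subgroups of order
`p ^ d` (and `4` if `p ^ d = 2`) are `ℋ`-subgroups.  Then every `p'`-element normalizing a subgroup `T ≤ P` of order
greater than `p ^ d` centralizes it. -/
theorem mem_centralizer_of_card_gt [Finite G] {p : ℕ} [Fact p.Prime]
    (hmin : ∀ q : ℕ, q.Prime → q ∣ Nat.card G → p ≤ q) {P : Subgroup G} (hP : IsPGroup p P) {d : ℕ}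
    (hd : 1 ≤ d)
    (hH : ∀ E : Subgroup G, E ≤ P → (Nat.card E = p ^ d ∨ (p ^ d = 2 ∧ Nat.card E = 4)) → IsH E)
    {T : Subgroup G} (hTP : T ≤ P) (hT : p ^ d < Nat.card T) {y : G}
    (hy : y ∈ Subgroup.normalizer (T : Set G)) (hcop : (orderOf y).Coprime p) :
    y ∈ Subgroup.centralizer (T : Set G) := by
  have hp : p.Prime := Fact.out
  have hTp : IsPGroup p T := hP.to_le hTP
  have stepA : ∀ E : Subgroup G, E ≤ T → IsH E → y ∈ Subgroup.normalizer (E : Set G) := by
    intro E hET hE
    have hPE := hE.le_normalizer hP (hET.trans hTP)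
    apply mem_normalizer_of_map_conj_le
    rintro _ ⟨e, he, rfl⟩
    exact hE.conj_mem hPE he (hTP ((Subgroup.mem_normalizer_iff.mp hy e).mp (hET he)))
  have claim1 : ∀ E : Subgroup G, E ≤ T → Nat.card E = p ^ d →
      y ∈ Subgroup.centralizer (E : Set G) := by
    intro E hET hEc
    obtain ⟨Y, hEY, hYT, hYc⟩ := exists_subgroup_card_between hTp hET (m := d + 1)
      (by rw [hEc]; exact Nat.pow_le_pow_right hp.pos (by omega)) (pow_succ_le_card_of_lt hTp hT)
    have hYp : IsPGroup p Y := hTp.to_le hYT
    have hsub : ∀ M : Subgroup G, M ≤ Y → Nat.card M = p ^ d →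
        y ∈ Subgroup.normalizer (M : Set G) := fun M hM hMc =>
      stepA M (hM.trans hYT) (hH M ((hM.trans hYT).trans hTP) (Or.inl hMc))
    have hEltY : E < Y := by
      refine lt_of_le_of_ne hEY ?_
      rintro rfl
      rw [hEc] at hYc
      have := Nat.pow_lt_pow_right hp.one_lt (show d < d + 1 by omega)
      omega
    by_cases hex : ∃ E' : Subgroup G, E' ≤ Y ∧ Nat.card E' = p ^ d ∧ E' ≠ E
    · obtain ⟨E', hE'Y, hE'c, hne⟩ := hex
      have hsup : E ⊔ E' = Y := by
        by_contra hcon
        have hlt : E ⊔ E' < Y := lt_of_le_of_ne (sup_le hEY hE'Y) hcon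
        have h1 := card_le_pow_of_lt hYp hYc hlt
        have h2 : E = E ⊔ E' := Subgroup.eq_of_le_of_card_ge le_sup_left (by rw [hEc]; exact h1)
        have h3 : E' = E ⊔ E' := Subgroup.eq_of_le_of_card_ge le_sup_right (by rw [hE'c]; exact h1)
        exact hne (h3.trans h2.symm)
      have hyY : y ∈ Subgroup.normalizer (Y : Set G) := by
        rw [← hsup]
        exact Subgroup.normalizer_inf_normalizer_le_normalizer_sup E E'
          ⟨hsub E hEY hEc, hsub E' hE'Y hE'c⟩
      have hc := mem_centralizer_of_normalizes_coatoms hmin hYp hyY hcop (by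
        intro M hMY hM
        obtain ⟨-, -, f3⟩ := coatom_facts hYp hMY hM
        apply hsub M hMY
        rw [hYc, pow_succ] at f3
        exact Nat.eq_of_mul_eq_mul_right hp.pos f3)
      exact Subgroup.centralizer_le hEY hc
    · push Not at hex
      obtain ⟨u, huY, huE⟩ := SetLike.exists_of_lt hEltY
      have hzu : Subgroup.zpowers u = Y := by
        by_contra hcon
        have hlt : Subgroup.zpowers u < Y :=
          lt_of_le_of_ne (Subgroup.zpowers_le.mpr huY) hcon
        obtain ⟨E'', h1, h2, h3⟩ := exists_subgroup_card_between hYp hlt.le (m := d)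
          (card_le_pow_of_lt hYp hYc hlt)
          (by rw [hYc]; exact Nat.pow_le_pow_right hp.pos (by omega))
        have := hex E'' h2 h3
        exact huE (this ▸ h1 (Subgroup.mem_zpowers u))
      have hcycY : IsCyclic Y := by
        rw [← hzu]; infer_instance
      have hcycE : IsCyclic E := Subgroup.isCyclic_of_le hEY
      exact mem_centralizer_of_isCyclic hmin (hTp.to_le hET) hcycE
        (hsub E hEY hEc) hcop
  have key : ∀ x ∈ T, (x ^ p = 1 ∨ (p = 2 ∧ x ^ 4 = 1)) →
      x ∈ Subgroup.centralizer ((Subgroup.zpowers y : Subgroup G) : Set G) := by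
    intro x hxT hx
    suffices hyx : y ∈ Subgroup.centralizer ((Subgroup.zpowers x : Subgroup G) : Set G) by
      have h1 : Subgroup.zpowers y ≤
          Subgroup.centralizer ((Subgroup.zpowers x : Subgroup G) : Set G) :=
        Subgroup.zpowers_le.mpr hyx
      have h2 := Subgroup.le_centralizer_iff.mp h1
      exact h2 (Subgroup.mem_zpowers x)
    have hXT : Subgroup.zpowers x ≤ T := Subgroup.zpowers_le.mpr hxT
    by_cases h2 : p ^ d = 2
    · -- `p = 2`, `d = 1`
      have hp2 : p = 2 := by
        have h3 : p ∣ 2 := by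
          rw [← h2]; exact dvd_pow_self p (by omega)
        exact (Nat.prime_dvd_prime_iff_eq hp Nat.prime_two).mp h3
      have hx4 : x ^ 4 = 1 := by
        rcases hx with hx | ⟨-, hx⟩
        · rw [hp2] at hx
          have : x ^ 4 = (x ^ 2) ^ 2 := by rw [← pow_mul]
          rw [this, hx, one_pow]
        · exact hx
      have hdvd : orderOf x ∣ 2 ^ 2 := orderOf_dvd_of_pow_eq_one hx4
      obtain ⟨k, hk, hk'⟩ := (Nat.dvd_prime_pow Nat.prime_two).mp hdvd
      have hXc : Nat.card (Subgroup.zpowers x) = 2 ^ k := by rw [Nat.card_zpowers, hk']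
      have hcyc : IsCyclic (Subgroup.zpowers x) := inferInstance
      have hXp : IsPGroup p (Subgroup.zpowers x) := hTp.to_le hXT
      interval_cases k
      · have hx1 : x = 1 := by
          rw [← orderOf_eq_one_iff, hk', pow_zero]
        rw [hx1, Subgroup.zpowers_one_eq_bot, Subgroup.mem_centralizer_iff]
        intro z hz
        have : z = 1 := hz
        rw [this, one_mul, mul_one]
      · exact mem_centralizer_of_isCyclic hmin hXp hcyc
          (stepA _ hXT (hH _ (hXT.trans hTP) (Or.inl (by rw [hXc, h2, pow_one])))) hcop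
      · exact mem_centralizer_of_isCyclic hmin hXp hcyc
          (stepA _ hXT (hH _ (hXT.trans hTP) (Or.inr ⟨h2, by rw [hXc]; norm_num⟩))) hcop
    · have hXc : Nat.card (Subgroup.zpowers x) ≤ p ^ d := by
        rw [Nat.card_zpowers]
        rcases hx with hx | ⟨hp2, hx⟩
        · calc orderOf x ≤ p := orderOf_le_of_pow_eq_one hp.pos hx
            _ = p ^ 1 := (pow_one p).symm
            _ ≤ p ^ d := Nat.pow_le_pow_right hp.pos hd
        · have hd2 : 2 ≤ d := by
            by_contra hcon
            have : d = 1 := by omega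
            rw [this, hp2] at h2
            exact h2 rfl
          calc orderOf x ≤ 4 := orderOf_le_of_pow_eq_one (by norm_num) hx
            _ = 2 ^ 2 := by norm_num
            _ ≤ 2 ^ d := Nat.pow_le_pow_right (by norm_num) hd2
            _ = p ^ d := by rw [hp2]
      obtain ⟨E, h1, h2', h3⟩ := exists_subgroup_card_between hTp hXT hXc hT.le
      exact Subgroup.centralizer_le h1 (claim1 E h2' h3)
  have hzn : Subgroup.zpowers y ≤ Subgroup.normalizer (T : Set G) := Subgroup.zpowers_le.mpr hy
  have hzc : (Nat.card (Subgroup.zpowers y)).Coprime p := by rw [Nat.card_zpowers]; exact hcop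
  have hfinal : T ≤ Subgroup.centralizer ((Subgroup.zpowers y : Subgroup G) : Set G) := by
    by_cases hp2 : p = 2
    · subst hp2
      exact le_centralizer_of_centralizes_omega_two (Subgroup.zpowers y) hzc T hTp hzn
        (fun x hx hx4 => key x hx (Or.inr ⟨rfl, hx4⟩))
    · exact Cfsg.Agent.Lib.Helper24.le_centralizer_of_centralizes_omega p hp2 (Subgroup.zpowers y)
        hzc T hTp hzn (fun x hx hxp => key x hx (Or.inl hxp))
  exact (Subgroup.le_centralizer_iff.mp hfinal) (Subgroup.mem_zpowers y)

end Cfsg.Agent.Lib.Helper50
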