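import Cfsg.Agent.Lib.Helper50.EigenLine2
import Cfsg.Agent.Lib.Helper9.Supersolvable7

set_option autoImplicit false

namespace Cfsg.Agent.Lib.Helper50

open Cfsg.Agent.Lib.Helper9

/-- Let `Q ≤ L` be normal subgroups of `G`, `Q ≠ 1` a `p`-group, `G / L` abelian of exponent dividing `p - 1`, and
`L / C_L(Q)` a `p`-group.  Then `Q` contains a normal subgroup of `G` of order `p`. -/
theorem exists_normal_card_eq_prime_of_stable {G : Type*} [Group G] [Finite G] {p : ℕ}
    [Fact p.Prime] (Q L : Subgroup G) [Q.Normal] [L.Normal] (hQ : IsPGroup p Q) (hQb : Q ≠ ⊥)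
    (hQL : Q ≤ L) (hcomm : ∀ g h : G, g * h * g⁻¹ * h⁻¹ ∈ L) (hpow : ∀ g : G, g ^ (p - 1) ∈ L)
    (hL : ∀ y ∈ L, ∃ k : ℕ, y ^ (p ^ k) ∈ Subgroup.centralizer (Q : Set G)) :
    ∃ N : Subgroup G, N ≤ Q ∧ N.Normal ∧ Nat.card N = p := by
  have hp : p.Prime := Fact.out
  set A : Subgroup G := Q ⊓ Subgroup.centralizer (L : Set G) with hA
  have hAn : A.Normal := inferInstance
  have hAb : A ≠ ⊥ := by
    let φ : L →* MulAut Q := (MulAut.conjNormal (H := Q)).comp L.subtype
    have hφ : ∀ (y : L) (x : Q), ((φ y x : Q) : G) = y * x * (y : G)⁻¹ :=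
      fun y x => MulAut.conjNormal_apply (y : G) x
    have hr : IsPGroup p φ.range := by
      rintro ⟨_, y, rfl⟩
      obtain ⟨k, hk⟩ := hL y y.2
      refine ⟨k, ?_⟩
      apply Subtype.ext
      change (φ y) ^ (p ^ k) = 1
      rw [← map_pow]
      ext x
      rw [hφ]
      have := (Subgroup.mem_centralizer_iff.mp hk) x x.2
      simp only [Subgroup.coe_pow, MulAut.one_apply]
      rw [← this]
      group
    have hdvd : p ∣ Nat.card Q := by
      rcases hQ.card_eq_or_dvd with h | h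
      · exact absurd (Subgroup.card_eq_one.mp h) hQb
      · exact h
    have h1 : (1 : Q) ∈ MulAction.fixedPoints φ.range Q := by
      rintro ⟨f, hf⟩
      change f 1 = 1
      exact map_one f
    obtain ⟨b, hb, hb1⟩ := hr.exists_fixed_point_of_prime_dvd_card_of_fixed_point Q hdvd h1
    intro hbot
    have hbA : (b : G) ∈ A := by
      refine ⟨b.2, ?_⟩
      refine Subgroup.mem_centralizer_iff.mpr ?_
      intro y hy
      have h2 : φ ⟨y, hy⟩ b = b := hb ⟨φ ⟨y, hy⟩, ⟨_, rfl⟩⟩
      have h3 := congrArg (fun z : Q => (z : G)) h2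
      simp only [hφ] at h3
      calc y * b = y * b * y⁻¹ * y := by group
        _ = b * y := by rw [h3]
    rw [hbot] at hbA
    exact hb1 (Subtype.ext (Subgroup.mem_bot.mp hbA).symm)
  have hAp : IsPGroup p A := hQ.to_le inf_le_left
  have hAc : ∀ a ∈ A, ∀ y ∈ L, y * a = a * y := fun a ha y hy =>
    (Subgroup.mem_centralizer_iff.mp ha.2) y hy
  obtain ⟨x, hx⟩ : ∃ x : A, orderOf x = p := by
    apply exists_prime_orderOf_dvd_card' p
    rcases hAp.card_eq_or_dvd with h | h
    · exact absurd (Subgroup.card_eq_one.mp h) hAb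
    · exact h
  let V : Subgroup G :=
    { carrier := {z | z ∈ A ∧ z ^ p = 1}
      one_mem' := ⟨A.one_mem, one_pow p⟩
      mul_mem' := by
        rintro a b ⟨ha, ha'⟩ ⟨hb, hb'⟩
        refine ⟨A.mul_mem ha hb, ?_⟩
        have hc : Commute a b := hAc b hb a (hQL ha.1)
        rw [hc.mul_pow, ha', hb', one_mul]
      inv_mem' := by
        rintro a ⟨ha, ha'⟩
        exact ⟨A.inv_mem ha, by rw [inv_pow, ha', inv_one]⟩ }
  have hVA : V ≤ A := fun z hz => hz.1
  have hVn : V.Normal := by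
    constructor
    rintro z ⟨hz, hz'⟩ g
    exact ⟨hAn.conj_mem z hz g, by rw [conj_pow, hz']; group⟩
  have hVb : V ≠ ⊥ := by
    intro h
    have h1 : (x : G) ∈ V := by
      refine ⟨x.2, ?_⟩
      have := pow_orderOf_eq_one x
      rw [hx] at this
      exact congrArg (fun z : A => (z : G)) this
    rw [h] at h1
    have h2 : x = 1 := Subtype.ext (Subgroup.mem_bot.mp h1)
    rw [h2, orderOf_one] at hx
    exact hp.one_lt.ne hx
  obtain ⟨N, hNV, hNn, hNc⟩ := exists_normal_card_eq_prime_le (p := p) V hVb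
    (fun a ha b hb => hAc b (hVA hb) a (hQL (hVA ha).1)) (fun a ha => ha.2)
    (by
      intro g h v hv
      have hw : h * (g * v * g⁻¹) * h⁻¹ ∈ V := hVn.conj_mem _ (hVn.conj_mem v hv g) h
      have hc := hAc _ (hVA hw) _ (hcomm g h)
      calc g * (h * v * h⁻¹) * g⁻¹
          = (g * h * g⁻¹ * h⁻¹) * (h * (g * v * g⁻¹) * h⁻¹) * (g * h * g⁻¹ * h⁻¹)⁻¹ := by group
        _ = h * (g * v * g⁻¹) * h⁻¹ := by rw [hc]; group)
    (by
      intro g v hv
      rw [hAc v (hVA hv) _ (hpow g)]
      group)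
  exact ⟨N, (hNV.trans hVA).trans inf_le_left, hNn, hNc⟩

/-- **Supersolvable engine.**  Let `Q ≤ L` be normal subgroups of `G`, `Q` a `p`-group, `G / L` abelian of exponent
dividing `p - 1`, `L / C_L(Q)` a `p`-group and `G / Q` supersolvable.  Then `G` is supersolvable. -/
theorem isSupersolvable_of_stable {G : Type*} [Group G] [Finite G] {p : ℕ} [Fact p.Prime]
    (Q L : Subgroup G) [Q.Normal] [L.Normal] (hQ : IsPGroup p Q) (hQL : Q ≤ L)
    (hcomm : ∀ g h : G, g * h * g⁻¹ * h⁻¹ ∈ L) (hpow : ∀ g : G, g ^ (p - 1) ∈ L)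
    (hL : ∀ y ∈ L, ∃ k : ℕ, y ^ (p ^ k) ∈ Subgroup.centralizer (Q : Set G))
    (hss : Cfsg.IsSupersolvable (G ⧸ Q)) : Cfsg.IsSupersolvable G := by
  induction hn : Nat.card G using Nat.strong_induction_on generalizing G with
  | _ n ih =>
    have hp : p.Prime := Fact.out
    by_cases hQb : Q = ⊥
    · have : IsCyclic Q := by
        have : Subsingleton Q := by rw [hQb]; infer_instance
        infer_instance
      exact isSupersolvable_of_cyclic_normal Q hss
    · obtain ⟨N, hNQ, hNn, hNc⟩ :=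
        exists_normal_card_eq_prime_of_stable Q L hQ hQb hQL hcomm hpow hL
      have hcyc : IsCyclic N := isCyclic_of_prime_card hNc
      have hNb : N ≠ ⊥ := by
        intro h
        rw [h, Subgroup.card_bot] at hNc
        exact hp.one_lt.ne hNc
      apply isSupersolvable_of_cyclic_normal N
      have hπ : Function.Surjective (QuotientGroup.mk' N) := QuotientGroup.mk'_surjective N
      have i1 : (Q.map (QuotientGroup.mk' N)).Normal := Subgroup.Normal.map inferInstance _ hπ
      have i2 : (L.map (QuotientGroup.mk' N)).Normal := Subgroup.Normal.map inferInstance _ hπ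
      refine ih (Nat.card (G ⧸ N)) (by rw [← hn]; exact card_quotient_lt N hNb)
        (Q.map (QuotientGroup.mk' N)) (L.map (QuotientGroup.mk' N)) (hQ.map _)
        (Subgroup.map_mono hQL) ?_ ?_ ?_ ?_ rfl
      · intro g h
        obtain ⟨g, rfl⟩ := hπ g
        obtain ⟨h, rfl⟩ := hπ h
        exact ⟨_, hcomm g h, by simp⟩
      · intro g
        obtain ⟨g, rfl⟩ := hπ g
        exact ⟨_, hpow g, by simp⟩
      · rintro _ ⟨y, hy, rfl⟩
        obtain ⟨k, hk⟩ := hL y hy
        refine ⟨k, ?_⟩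
        rw [← map_pow, Subgroup.mem_centralizer_iff]
        rintro _ ⟨x, hx, rfl⟩
        rw [← map_mul, ← map_mul, (Subgroup.mem_centralizer_iff.mp hk) x hx]
      · exact isSupersolvable_of_mulEquiv
          (QuotientGroup.quotientQuotientEquivQuotient N Q hNQ).symm hss

end Cfsg.Agent.Lib.Helper50
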