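import Cfsg.Agent.Lib.Helper50.Sections
import Cfsg.Agent.Lib.Helper50.SupersolvableEngine

set_option autoImplicit false

namespace Cfsg.Agent.Lib.Helper50

open Cfsg.Agent.Lib.Helper9

variable {G : Type*} [Group G]

/-- a `p'`-group normalizing a `p`-subgroup `Y` and acting trivially on `Y / M` for all maximal subgroups `M` of `Y`
centralizes `Y`. -/
theorem le_centralizer_of_trivial_on_coatoms [Finite G] {p : ℕ} [Fact p.Prime] {Y : Subgroup G}
    (hY : IsPGroup p Y) (A : Subgroup G) (hA : A ≤ Subgroup.normalizer (Y : Set G))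
    (hcop : (Nat.card A).Coprime p)
    (hmax : ∀ M : Subgroup G, M ≤ Y → IsCoatom (M.subgroupOf Y) →
      ∀ a ∈ A, ∀ k ∈ Y, a * k * a⁻¹ * k⁻¹ ∈ M) : A ≤ Subgroup.centralizer (Y : Set G) := by
  apply Cfsg.Agent.S0029.result A Y hA
  · obtain ⟨k, hk⟩ := (hY.to_subgroup (frattini Y)).exists_card_eq
    rw [hk]
    exact Nat.Coprime.pow_right k hcop
  · intro a ha k hk
    have hz : a * k * a⁻¹ * k⁻¹ ∈ Y :=
      Y.mul_mem ((Subgroup.mem_normalizer_iff.mp (hA ha) k).mp hk) (Y.inv_mem hk)
    refine ⟨⟨_, hz⟩, ?_, rfl⟩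
    rw [SetLike.mem_coe, Cfsg.Agent.Lib.Helper1.mem_frattini_iff]
    intro M' hM'
    have hMM : (M'.map Y.subtype).subgroupOf Y = M' :=
      Subgroup.comap_map_eq_self_of_injective Y.subtype_injective M'
    have hMY : M'.map Y.subtype ≤ Y := Subgroup.map_subtype_le M'
    have hco : IsCoatom ((M'.map Y.subtype).subgroupOf Y) := by rw [hMM]; exact hM'
    have := hmax _ hMY hco a ha k hk
    rw [← hMM, Subgroup.mem_subgroupOf]
    exact this

/-- Let `p` be odd and `Q` a normal `p`-subgroup of `G` all of whose subgroups of order `p ^ d` (`1 ≤ d`,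
`p ^ d < |Q|`) are normal in `G`.  Then the `p'`-elements acting trivially on all `G`-sections of order `p` of `Q`
centralize `Q`. -/
theorem mem_centralizer_of_mem_secKer [Finite G] {p : ℕ} [Fact p.Prime] (hp2 : p ≠ 2)
    {Q : Subgroup G} (hQ : IsPGroup p Q) {d : ℕ} (hd : 1 ≤ d)
    (hdQ : p ^ d < Nat.card Q)
    (hN : ∀ F : Subgroup G, F ≤ Q → Nat.card F = p ^ d → F.Normal) {y : G}
    (hy : y ∈ secKer p Q) (hyQ : y ∈ Subgroup.normalizer (Q : Set G))
    (hcop : (orderOf y).Coprime p) :
    y ∈ Subgroup.centralizer (Q : Set G) := by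
  have hp : p.Prime := Fact.out
  set A := Subgroup.zpowers y with hAdef
  have hAL : A ≤ secKer p Q := Subgroup.zpowers_le.mpr hy
  have hAc : (Nat.card A).Coprime p := by rw [Nat.card_zpowers]; exact hcop
  have S : ∀ Y : Subgroup G, Y ≤ Q → Y.Normal →
      (∀ M : Subgroup G, M ≤ Y → IsCoatom (M.subgroupOf Y) → M.Normal) →
      A ≤ Subgroup.centralizer (Y : Set G) := by
    intro Y hYQ hYn hM
    apply le_centralizer_of_trivial_on_coatoms (hQ.to_le hYQ) A
      (by rw [Subgroup.normalizer_eq_top_iff.mpr hYn]; exact le_top) hAc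
    intro M hMY hMco a ha k hk
    exact (hAL ha) Y M hYn (hM M hMY hMco) hMY hYQ (coatom_facts (hQ.to_le hYQ) hMY hMco).2.1 k hk
  have claim1 : ∀ E : Subgroup G, E ≤ Q → Nat.card E = p ^ d →
      A ≤ Subgroup.centralizer (E : Set G) := by
    intro E hEQ hEc
    obtain ⟨Y, hEY, hYQ, hYc⟩ := exists_subgroup_card_between hQ hEQ (m := d + 1)
      (by rw [hEc]; exact Nat.pow_le_pow_right hp.pos (by omega)) (pow_succ_le_card_of_lt hQ hdQ)
    have hYp : IsPGroup p Y := hQ.to_le hYQ
    have hEltY : E < Y := by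
      refine lt_of_le_of_ne hEY ?_
      rintro rfl
      rw [hEc] at hYc
      have := Nat.pow_lt_pow_right hp.one_lt (show d < d + 1 by omega)
      omega
    by_cases hex : ∃ E' : Subgroup G, E' ≤ Y ∧ Nat.card E' = p ^ d ∧ E' ≠ E
    · obtain ⟨E', hE'Y, hE'c, hne⟩ := hex
      have hsup : E ⊔ E' = Y := by
        by_contra hcon
        have hlt : E ⊔ E' < Y := lt_of_le_of_ne (sup_le hEY hE'Y) hcon
        have h1 := card_le_pow_of_lt hYp hYc hlt
        have h2 : E = E ⊔ E' := Subgroup.eq_of_le_of_card_ge le_sup_left (by rw [hEc]; exact h1)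
        have h3 : E' = E ⊔ E' := Subgroup.eq_of_le_of_card_ge le_sup_right (by rw [hE'c]; exact h1)
        exact hne (h3.trans h2.symm)
      have hYn : Y.Normal := by
        rw [← hsup]
        have i1 := hN E hEQ hEc
        have i2 := hN E' (hE'Y.trans hYQ) hE'c
        infer_instance
      refine (S Y hYQ hYn ?_).trans (Subgroup.centralizer_le hEY)
      intro M hMY hM
      obtain ⟨-, -, f3⟩ := coatom_facts hYp hMY hM
      apply hN M (hMY.trans hYQ)
      rw [hYc, pow_succ] at f3
      exact Nat.eq_of_mul_eq_mul_right hp.pos f3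
    · push Not at hex
      obtain ⟨u, huY, huE⟩ := SetLike.exists_of_lt hEltY
      have hzu : Subgroup.zpowers u = Y := by
        by_contra hcon
        have hlt : Subgroup.zpowers u < Y :=
          lt_of_le_of_ne (Subgroup.zpowers_le.mpr huY) hcon
        obtain ⟨E'', h1, h2, h3⟩ := exists_subgroup_card_between hYp hlt.le (m := d)
          (card_le_pow_of_lt hYp hYc hlt)
          (by rw [hYc]; exact Nat.pow_le_pow_right hp.pos (by omega))
        have := hex E'' h2 h3
        exact huE (this ▸ h1 (Subgroup.mem_zpowers u))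
      have hcycY : IsCyclic Y := by
        rw [← hzu]; infer_instance
      have hcycE : IsCyclic E := Subgroup.isCyclic_of_le hEY
      have hEn : E.Normal := hN E hEQ hEc
      exact S E hEQ hEn (fun M hME _ => normal_of_le_cyclic_normal hEn hME)
  have key : ∀ x ∈ Q, x ^ p = 1 → x ∈ Subgroup.centralizer (A : Set G) := by
    intro x hxQ hx
    have hXQ : Subgroup.zpowers x ≤ Q := Subgroup.zpowers_le.mpr hxQ
    have hXc : Nat.card (Subgroup.zpowers x) ≤ p ^ d := by
      rw [Nat.card_zpowers]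
      calc orderOf x ≤ p := orderOf_le_of_pow_eq_one hp.pos hx
        _ = p ^ 1 := (pow_one p).symm
        _ ≤ p ^ d := Nat.pow_le_pow_right hp.pos hd
    obtain ⟨E, h1, h2, h3⟩ := exists_subgroup_card_between hQ hXQ hXc hdQ.le
    exact (Subgroup.le_centralizer_iff.mp (claim1 E h2 h3)) (h1 (Subgroup.mem_zpowers x))
  have hfinal := Cfsg.Agent.Lib.Helper24.le_centralizer_of_centralizes_omega p hp2 A hAc Q hQ
    (Subgroup.zpowers_le.mpr hyQ) key
  exact (Subgroup.le_centralizer_iff.mp hfinal) (Subgroup.mem_zpowers y)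

end Cfsg.Agent.Lib.Helper50
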