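import Mathlib
import Cfsg.Agent.Lib.Helper50.OmegaRank
import Cfsg.Agent.Lib.Helper51.PGroup

/-! General lemmas: commutators of powers, class sizes, prime index. -/

set_option autoImplicit false

namespace Cfsg.Agent.Lib.Helper50

open Subgroup
open scoped commutatorElement

section
variable {G : Type*} [Group G]

theorem comm_pow_left {x y : G} (h : Commute ⁅x, y⁆ x) (m : ℕ) : ⁅x ^ m, y⁆ = ⁅x, y⁆ ^ m := by
  induction m with
  | zero => simp
  | succ m ih =>
    have e : ⁅x ^ (m + 1), y⁆ = x * ⁅x ^ m, y⁆ * x⁻¹ * ⁅x, y⁆ := by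
      rw [pow_succ']
      simp only [commutatorElement_def]; group
    rw [e, ih]
    have h2 : x * ⁅x, y⁆ ^ m * x⁻¹ = ⁅x, y⁆ ^ m := by
      rw [← (h.pow_left m).eq, mul_inv_cancel_right]
    rw [h2, pow_succ]

theorem comm_pow_right {x y : G} (h : Commute ⁅x, y⁆ y) (n : ℕ) : ⁅x, y ^ n⁆ = ⁅x, y⁆ ^ n := by
  induction n with
  | zero => simp
  | succ n ih =>
    have e : ⁅x, y ^ (n + 1)⁆ = ⁅x, y⁆ * (y * ⁅x, y ^ n⁆ * y⁻¹) := by
      rw [pow_succ']
      simp only [commutatorElement_def]; group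
    rw [e, ih]
    have h2 : y * ⁅x, y⁆ ^ n * y⁻¹ = ⁅x, y⁆ ^ n := by
      rw [← (h.pow_left n).eq, mul_inv_cancel_right]
    rw [h2, pow_succ']

theorem comm_pow_pow {x y : G} (hx : Commute ⁅x, y⁆ x) (hy : Commute ⁅x, y⁆ y) (m n : ℕ) :
    ⁅x ^ m, y ^ n⁆ = ⁅x, y⁆ ^ (m * n) := by
  have h1 := comm_pow_left hx m
  have h2 : Commute ⁅x ^ m, y⁆ y := by rw [h1]; exact hy.pow_left m
  rw [comm_pow_right h2 n, h1, pow_mul]

theorem comm_mul_right_of_commute {x y w : G} (h : Commute x w) : ⁅x, y * w⁆ = ⁅x, y⁆ := by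
  have e : ⁅x, y * w⁆ = ⁅x, y⁆ * (y * ⁅x, w⁆ * y⁻¹) := by
    simp only [commutatorElement_def]; group
  rw [e, commutatorElement_eq_one_iff_commute.2 h]
  simp

/-- the class of `a ≠ 1` lies in the subgroup `X`: its size is `< |X|` -/
theorem index_centralizer_lt [Finite G] (a : G) (ha : a ≠ 1) (X : Subgroup G)
    (hX : ∀ g : G, g * a * g⁻¹ ∈ X) : (centralizer {a}).index < Nat.card X := by
  classical
  let f : G ⧸ centralizer {a} → X := fun q =>
    Quotient.liftOn' q (fun g => (⟨g * a * g⁻¹, hX g⟩ : X)) (by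
      intro g h hgh
      rw [QuotientGroup.leftRel_apply, mem_centralizer_singleton_iff] at hgh
      apply Subtype.ext
      show g * a * g⁻¹ = h * a * h⁻¹
      have e : a * (g⁻¹ * h) = g⁻¹ * h * a := hgh.symm
      have : h * a * h⁻¹ = g * (g⁻¹ * h * a) * h⁻¹ := by group
      rw [this, ← e]; group)
  have hf : Function.Injective f := by
    intro q r
    induction q using Quotient.inductionOn' with | _ g => ?_
    induction r using Quotient.inductionOn' with | _ h => ?_
    intro hqr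
    have e : g * a * g⁻¹ = h * a * h⁻¹ := congrArg Subtype.val hqr
    apply QuotientGroup.eq.2
    rw [mem_centralizer_singleton_iff]
    have : g⁻¹ * h * a = g⁻¹ * (h * a * h⁻¹) * h := by group
    rw [this, ← e]; group
  have hns : (1 : X) ∉ Set.range f := by
    rintro ⟨q, hq⟩
    induction q using Quotient.inductionOn' with | _ g => ?_
    have e : g * a * g⁻¹ = 1 := congrArg Subtype.val hq
    apply ha
    have : a = g⁻¹ * (g * a * g⁻¹) * g := by group
    rw [this, e]; group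
  haveI := Fintype.ofFinite (G ⧸ centralizer {a})
  haveI := Fintype.ofFinite X
  rw [index, Nat.card_eq_fintype_card, Nat.card_eq_fintype_card]
  exact Fintype.card_lt_of_injective_of_notMem f hf hns

/-- decomposition modulo a normal subgroup of prime index -/
theorem exists_pow_mul_of_index_prime {p : ℕ} [Fact p.Prime] (N : Subgroup G) [N.Normal]
    (hN : N.index = p) {c : G} (hc : c ∉ N) (g : G) : ∃ k : ℕ, ∃ w ∈ N, g = c ^ k * w := by
  have h1 : (QuotientGroup.mk c : G ⧸ N) ≠ 1 := by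
    rwa [Ne, QuotientGroup.eq_one_iff]
  obtain ⟨k, hk⟩ := mem_powers_of_prime_card (G := G ⧸ N) (p := p) hN h1 (g' := (QuotientGroup.mk g : G ⧸ N))
  refine ⟨k, (c ^ k)⁻¹ * g, ?_, by group⟩
  have hk' : (QuotientGroup.mk (c ^ k) : G ⧸ N) = QuotientGroup.mk g := hk
  exact QuotientGroup.eq.1 hk'

end

end Cfsg.Agent.Lib.Helper50
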