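import Cfsg.Agent.Lib.Helper50.RankTwoAut1
import Cfsg.Agent.Lib.Helper50.QdExt

/-! A self-centralizing `P ≅ C_p × C_p` in a `p`-group `R`: basic facts. -/

set_option autoImplicit false

namespace Cfsg.Agent.Lib.Helper50

open Subgroup
open scoped commutatorElement

/-- `P = ⟨z, a⟩` elementary abelian of order `p ^ 2`, self-centralizing and proper in `R`, `z` central. -/
structure AutCfg (p : ℕ) {R : Type*} [Group R] (P : Subgroup R) (z a : R) : Prop where
  hPc : Nat.card P = p ^ 2
  hPe : ∀ x ∈ P, x ^ p = 1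
  hCP : centralizer (P : Set R) ≤ P
  hPtop : P ≠ ⊤
  hz : z ∈ center R
  hz1 : z ≠ 1
  hzP : z ∈ P
  haP : a ∈ P
  haz : a ∉ zpowers z

section
variable {R : Type*} [Group R] [Finite R] {p : ℕ} [Fact p.Prime] {P : Subgroup R} {z a : R}

theorem AutCfg.card_zpowers (h : AutCfg p P z a) : Nat.card (zpowers z) = p := by
  rw [Nat.card_zpowers]
  exact orderOf_eq_prime (h.hPe z h.hzP) h.hz1

theorem AutCfg.a_ne_one (h : AutCfg p P z a) : a ≠ 1 := fun e => h.haz (e ▸ one_mem _)

theorem AutCfg.gen (h : AutCfg p P z a) : zpowers z ⊔ zpowers a = P := by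
  have hpp : p.Prime := Fact.out
  have hle : zpowers z ⊔ zpowers a ≤ P :=
    sup_le ((zpowers_le).2 h.hzP) ((zpowers_le).2 h.haP)
  have hlt : zpowers z < zpowers z ⊔ zpowers a := by
    refine lt_of_le_of_ne le_sup_left fun e => h.haz ?_
    rw [e]; exact le_sup_right (a := zpowers z) (mem_zpowers a)
  have h1 := card_lt_of_lt' hlt
  rw [h.card_zpowers] at h1
  have h2 := card_dvd_of_le hle
  rw [h.hPc] at h2
  obtain ⟨k, hk, hk'⟩ := (Nat.dvd_prime_pow hpp).1 h2
  apply eq_of_le_of_card_ge hle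
  rw [h.hPc, hk']
  apply Nat.pow_le_pow_right hpp.pos
  by_contra hc
  have hk1 : k ≤ 1 := by omega
  have h5 : p ^ k ≤ p ^ 1 := Nat.pow_le_pow_right hpp.pos hk1
  rw [pow_one] at h5
  rw [hk'] at h1
  omega

theorem AutCfg.comm (h : AutCfg p P z a) : ∀ x ∈ P, ∀ y ∈ P, x * y = y * x := by
  have := IsPGroup.isMulCommutative_of_card_eq_prime_sq h.hPc
  intro x hx y hy
  exact congrArg Subtype.val (mul_comm' (⟨x, hx⟩ : P) ⟨y, hy⟩)

theorem AutCfg.centralizer_a (h : AutCfg p P z a) : centralizer {a} = P := by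
  apply le_antisymm
  · intro g hg
    apply h.hCP
    rw [mem_centralizer_iff]
    have h1 : zpowers z ⊔ zpowers a ≤ centralizer {g} := by
      apply sup_le
      · rw [zpowers_le, mem_centralizer_singleton_iff]
        exact (mem_center_iff.1 h.hz g).symm
      · rw [zpowers_le, mem_centralizer_singleton_iff]
        exact (mem_centralizer_singleton_iff.1 hg).symm
    rw [h.gen] at h1
    intro x hx
    exact mem_centralizer_singleton_iff.1 (h1 hx)
  · intro g hg
    rw [mem_centralizer_singleton_iff]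
    exact h.comm g hg a h.haP

theorem AutCfg.center_eq (h : AutCfg p P z a) : center R = zpowers z := by
  have hpp : p.Prime := Fact.out
  have h1 : center R ≤ P := by
    refine le_trans ?_ h.hCP
    exact center_le_centralizer _
  have h2 : zpowers z ≤ center R := (zpowers_le).2 h.hz
  symm
  apply eq_of_le_of_card_ge h2
  rw [h.card_zpowers]
  have h3 := card_dvd_of_le h1
  rw [h.hPc] at h3
  obtain ⟨k, hk, hk'⟩ := (Nat.dvd_prime_pow hpp).1 h3
  have hk2 : k ≠ 2 := by
    intro e
    have h4 : center R = P := eq_of_le_of_card_ge h1 (by rw [h.hPc, hk', e])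
    apply h.hPtop
    rw [← h.centralizer_a, eq_top_iff]
    intro g _
    rw [mem_centralizer_singleton_iff]
    have : a ∈ center R := h4 ▸ h.haP
    exact mem_center_iff.1 this g
  have hk1 : k ≤ 1 := by omega
  rw [hk']
  calc p ^ k ≤ p ^ 1 := Nat.pow_le_pow_right hpp.pos hk1
    _ = p := pow_one p

theorem AutCfg.map_center (h : AutCfg p P z a) (ψ : R ≃* R) (t : ℕ) (hψ : ψ z = z ^ t) :
    ∀ y ∈ center R, ψ y = y ^ t := by
  intro y hy
  rw [h.center_eq] at hy
  obtain ⟨k, rfl⟩ := mem_zpowers_iff.1 hy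
  rw [map_zpow, hψ, ← zpow_natCast, ← zpow_natCast, ← zpow_mul, ← zpow_mul, mul_comm]

theorem AutCfg.orderOf_center (h : AutCfg p P z a) {y : R} (hy : y ∈ center R) (hy1 : y ≠ 1) :
    orderOf y = p := by
  apply orderOf_eq_prime _ hy1
  apply h.hPe
  rw [h.center_eq] at hy
  exact (zpowers_le.2 h.hzP) hy

/-- the normalizer of `P` has order `p ^ 3` -/
theorem AutCfg.card_normalizer (h : AutCfg p P z a) (hR : IsPGroup p R) :
    Nat.card (normalizer (P : Set R)) = p ^ 3 := by
  have hpp : p.Prime := Fact.out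
  set T := normalizer (P : Set R) with hT
  have hPT : P ≤ T := le_normalizer
  haveI : Group.IsNilpotent R := hR.isNilpotent
  have hlt : P < T := Group.normalizerCondition_of_isNilpotent P (lt_top_iff_ne_top.2 h.hPtop)
  obtain ⟨k, hk⟩ := IsPGroup.iff_card.1 (hR.to_subgroup T)
  have h1 := card_lt_of_lt' hlt
  rw [h.hPc, hk] at h1
  have hk2 : 2 < k := (Nat.pow_lt_pow_iff_right hpp.one_lt).1 h1
  -- class of `a` in `T`
  have h2 := index_centralizer_lt (G := T) ⟨a, hPT h.haP⟩
    (fun e => h.a_ne_one (congrArg Subtype.val e)) (P.subgroupOf T) (by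
      intro g
      rw [mem_subgroupOf]
      exact (mem_normalizer_iff.1 g.2 a).1 h.haP)
  have h3 : centralizer {(⟨a, hPT h.haP⟩ : T)} = P.subgroupOf T := by
    ext g
    have e0 : (g : R) ∈ P ↔ (g : R) ∈ centralizer {a} := by rw [h.centralizer_a]
    rw [mem_subgroupOf, e0, mem_centralizer_singleton_iff,
      mem_centralizer_singleton_iff]
    constructor
    · intro e; exact congrArg Subtype.val e
    · intro e; exact Subtype.ext e
  rw [h3] at h2
  have h4 : Nat.card (P.subgroupOf T) = p ^ 2 := by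
    rw [← h.hPc]
    exact Nat.card_congr (subgroupOfEquivOfLe hPT).toEquiv
  have h5 := (P.subgroupOf T).card_mul_index
  rw [h4] at h5 h2
  have h6 : Nat.card T < p ^ 4 := by
    rw [← h5]
    calc p ^ 2 * (P.subgroupOf T).index < p ^ 2 * p ^ 2 :=
          Nat.mul_lt_mul_of_pos_left h2 (pow_pos hpp.pos 2)
      _ = p ^ 4 := by ring
  rw [hk] at h6
  have hk4 : k < 4 := (Nat.pow_lt_pow_iff_right hpp.one_lt).1 h6
  have : k = 3 := by omega
  rw [hk, this]

end

end Cfsg.Agent.Lib.Helper50
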