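import Cfsg.Agent.Lib.Helper50.RankTwoAut2
import Cfsg.Agent.S0126

/-! Structure of a rank two `p`-group with a self-centralizing `C_p × C_p` and an element of order `> p`. -/

set_option autoImplicit false

namespace Cfsg.Agent.Lib.Helper50

open Subgroup
open scoped commutatorElement

section
variable {R : Type*} [Group R] [Finite R] {p : ℕ} [Fact p.Prime]

/-- a normal subgroup of order `p ^ 2` of a `p`-group: `[E, R]` is central -/
theorem commutator_top_le_center (hR : IsPGroup p R) (E : Subgroup R) [E.Normal]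
    (hE : Nat.card E = p ^ 2) : ⁅E, (⊤ : Subgroup R)⁆ ≤ center R := by
  have hpp : p.Prime := Fact.out
  haveI : Group.IsNilpotent R := hR.isNilpotent
  have hE1 : E ≠ ⊥ := by
    intro e
    rw [e, card_bot] at hE
    have := Nat.one_lt_pow (n := 2) (by norm_num) hpp.one_lt
    omega
  have h1 := Cfsg.Agent.Lib.Helper51.card_commutator_lt E ⊤ hE1 le_normalizer_of_normal
  have h2 : ⁅E, (⊤ : Subgroup R)⁆ ≤ E := commutator_le_left E ⊤
  have h3 := card_dvd_of_le h2
  rw [hE] at h1 h3
  obtain ⟨k, -, hk'⟩ := (Nat.dvd_prime_pow hpp).1 h3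
  rw [hk'] at h1
  have hk1 : k < 2 := (Nat.pow_lt_pow_iff_right hpp.one_lt).1 h1
  have h4 : ⁅⁅E, (⊤ : Subgroup R)⁆, (⊤ : Subgroup R)⁆ = ⊥ := by
    by_cases h0 : ⁅E, (⊤ : Subgroup R)⁆ = ⊥
    · rw [h0, commutator_bot_left]
    · have h5 := Cfsg.Agent.Lib.Helper51.card_commutator_lt ⁅E, (⊤ : Subgroup R)⁆ ⊤ h0
        le_normalizer_of_normal
      have h6 := card_dvd_of_le (commutator_le_left ⁅E, (⊤ : Subgroup R)⁆ ⊤)
      rw [hk'] at h5 h6
      obtain ⟨j, -, hj'⟩ := (Nat.dvd_prime_pow hpp).1 h6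
      rw [hj'] at h5
      have hj1 : j < k := (Nat.pow_lt_pow_iff_right hpp.one_lt).1 h5
      have hj0 : j = 0 := by omega
      rw [hj0, pow_zero] at hj'
      exact card_eq_one.1 hj'
  rw [commutator_eq_bot_iff_le_centralizer, coe_top, centralizer_univ] at h4
  exact h4

theorem commutator_le_of_index_dvd (N : Subgroup R) [N.Normal] (hN : N.index = p ∨ N.index = p ^ 2) :
    commutator R ≤ N := by
  rw [← Subgroup.Normal.quotient_commutative_iff_commutator_le]
  rcases hN with hN | hN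
  · haveI := isCyclic_of_prime_card (α := R ⧸ N) (p := p) hN
    exact IsCyclic.isMulCommutative
  · exact IsPGroup.isMulCommutative_of_card_eq_prime_sq (p := p) (G := R ⧸ N) hN

theorem AutCfg.struct {P : Subgroup R} {z a : R} (h : AutCfg p P z a) (hR : IsPGroup p R)
    (hp : 3 < p) (hr : Cfsg.PRankLE p 2 R) (c : R) (hc : c ^ p ≠ 1) :
    ∃ W E : Subgroup R, W.Normal ∧ E.Normal ∧ (∀ x, x ∈ W ↔ x ^ p = 1) ∧ W.index = p ∧ E ≤ W ∧
      commutator R ≤ E ∧ ⁅E, (⊤ : Subgroup R)⁆ ≤ center R ∧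
      ((W = P ∧ E = P) ∨ (W = normalizer (P : Set R) ∧ P ⊓ E ≤ center R)) := by
  have hpp : p.Prime := Fact.out
  haveI : Group.IsNilpotent R := hR.isNilpotent
  set W := Om p (⊤ : Subgroup R) with hW
  have hWp : ∀ g ∈ W, g ^ p = 1 := fun g hg => Om_pow hp hr (hR.to_subgroup ⊤) hg
  have hWc : Nat.card W ≤ p ^ 3 := Om_card_le hp hr (hR.to_subgroup ⊤)
  haveI hWn : W.Normal := Om_normal p ⊤
  have hWiff : ∀ x, x ∈ W ↔ x ^ p = 1 := fun x => ⟨hWp x, fun hx => mem_Om (mem_top x) hx⟩
  have hPW : P ≤ W := fun x hx => (hWiff x).2 (h.hPe x hx)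
  have hcW : c ∉ W := fun hx => hc (hWp c hx)
  have hWtop : W < ⊤ := lt_top_iff_ne_top.2 fun e => hcW (e ▸ mem_top c)
  set T := normalizer (P : Set R) with hT
  have hTc : Nat.card T = p ^ 3 := h.card_normalizer hR
  obtain ⟨n, hn⟩ := IsPGroup.iff_card.1 hR
  obtain ⟨k, hk⟩ := IsPGroup.iff_card.1 (hR.to_subgroup W)
  by_cases hTtop : T = ⊤
  · -- `P` normal
    haveI hPn : P.Normal := normalizer_eq_top_iff.1 hTtop
    have hRc : Nat.card R = p ^ 3 := by rw [← hTc, hTtop, card_top]
    have h1 := card_lt_of_lt' hWtop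
    rw [card_top, hRc, hk] at h1
    have hk3 : k < 3 := (Nat.pow_lt_pow_iff_right hpp.one_lt).1 h1
    have h2 := card_le_of_le hPW
    rw [h.hPc, hk] at h2
    have hk2 : 2 ≤ k := (Nat.pow_le_pow_iff_right hpp.one_lt).1 h2
    have hk' : k = 2 := by omega
    have hWP : W = P := (eq_of_le_of_card_ge hPW (by rw [hk, hk', h.hPc])).symm
    have hidx : P.index = p := by
      have h3 := P.card_mul_index
      rw [h.hPc, hRc] at h3
      have : p ^ 2 * P.index = p ^ 2 * p := by rw [h3]; ring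
      exact Nat.eq_of_mul_eq_mul_left (pow_pos hpp.pos 2) this
    refine ⟨W, P, hWn, hPn, hWiff, by rw [hWP]; exact hidx, hPW,
      commutator_le_of_index_dvd P (Or.inl hidx), commutator_top_le_center hR P h.hPc,
      Or.inl ⟨hWP, rfl⟩⟩
  · have hTlt : T < ⊤ := lt_top_iff_ne_top.2 hTtop
    have hPT : P ≤ T := le_normalizer
    have hTW : T ≤ W := by
      by_contra hcon
      have h1 : W ⊓ T < T := lt_of_le_of_ne inf_le_right fun e => hcon (e ▸ inf_le_left)
      have h2 : P ≤ W ⊓ T := le_inf hPW hPT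
      have h3 : W ⊓ T = P := by
        symm
        apply eq_of_le_of_card_ge h2
        obtain ⟨j, hj⟩ := IsPGroup.iff_card.1 (hR.to_subgroup (W ⊓ T))
        have h4 := card_lt_of_lt' h1
        rw [hTc, hj] at h4
        have hj3 : j < 3 := (Nat.pow_lt_pow_iff_right hpp.one_lt).1 h4
        rw [hj, h.hPc]
        exact Nat.pow_le_pow_right hpp.pos (by omega)
      have h5 : normalizer (T : Set R) ≤ T := by
        intro g hg
        rw [hT, mem_normalizer_iff]
        intro x
        rw [← h3, mem_inf, mem_inf]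
        constructor
        · rintro ⟨hx1, hx2⟩
          exact ⟨hWn.conj_mem x hx1 g, (mem_normalizer_iff.1 hg x).1 hx2⟩
        · rintro ⟨hx1, hx2⟩
          refine ⟨?_, (mem_normalizer_iff.1 hg x).2 hx2⟩
          have := hWn.conj_mem _ hx1 g⁻¹
          simpa [mul_assoc] using this
      exact absurd (Group.normalizerCondition_of_isNilpotent T hTlt) (not_lt_of_ge h5)
    have hWT : W = T := (eq_of_le_of_card_ge hTW (by rw [hTc]; exact hWc)).symm
    have hWc3 : Nat.card W = p ^ 3 := by rw [hWT, hTc]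
    have hRc : Nat.card R = p ^ 4 := by
      have h1 := index_centralizer_lt a h.a_ne_one W (fun g => hWn.conj_mem a (hPW h.haP) g)
      rw [h.centralizer_a, hWc3] at h1
      have h2 := P.card_mul_index
      rw [h.hPc, hn] at h2
      have h3 : p ^ n < p ^ 5 := by
        rw [← h2]
        calc p ^ 2 * P.index < p ^ 2 * p ^ 3 := Nat.mul_lt_mul_of_pos_left h1 (pow_pos hpp.pos 2)
          _ = p ^ 5 := by ring
      have hn5 : n < 5 := (Nat.pow_lt_pow_iff_right hpp.one_lt).1 h3
      have h4 := card_lt_of_lt' hTlt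
      rw [card_top, hTc, hn] at h4
      have hn3 : 3 < n := (Nat.pow_lt_pow_iff_right hpp.one_lt).1 h4
      have : n = 4 := by omega
      rw [hn, this]
    have hidx : W.index = p := by
      have h3 := W.card_mul_index
      rw [hWc3, hRc] at h3
      have : p ^ 3 * W.index = p ^ 3 * p := by rw [h3]; ring
      exact Nat.eq_of_mul_eq_mul_left (pow_pos hpp.pos 3) this
    have hnc : ¬ IsCyclic R := by
      intro hcyc
      haveI : IsCyclic P := Subgroup.isCyclic P
      have h1 := IsCyclic.exponent_eq_card (α := P)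
      have h2 : Monoid.exponent P ∣ p := by
        apply Monoid.exponent_dvd_of_forall_pow_eq_one
        intro x
        exact Subtype.ext (h.hPe x x.2)
      rw [h1, h.hPc] at h2
      have h3 := Nat.le_of_dvd hpp.pos h2
      have h4 : p ^ 1 < p ^ 2 := (Nat.pow_lt_pow_iff_right hpp.one_lt).2 (by norm_num)
      rw [pow_one] at h4
      omega
    obtain ⟨E, hEn, hEe, hEc⟩ := Cfsg.Agent.S0126.result (by omega : p ≠ 2) hR hnc
    haveI := hEn
    have hEW : E ≤ W := fun x hx => (hWiff x).2 (hEe.2 x hx)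
    have hEidx : E.index = p ^ 2 := by
      have h3 := E.card_mul_index
      rw [hEc, hRc] at h3
      have : p ^ 2 * E.index = p ^ 2 * p ^ 2 := by rw [h3]; ring
      exact Nat.eq_of_mul_eq_mul_left (pow_pos hpp.pos 2) this
    have hEZ := commutator_top_le_center hR E hEc
    have hZc : Nat.card (center R) = p := by rw [h.center_eq, h.card_zpowers]
    refine ⟨W, E, hWn, hEn, hWiff, hidx, hEW, commutator_le_of_index_dvd E (Or.inr hEidx), hEZ,
      Or.inr ⟨hWT, ?_⟩⟩
    -- `P ⊓ E = Z(R)`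
    have h1 : ⁅E, (⊤ : Subgroup R)⁆ ≠ ⊥ := by
      intro e
      rw [commutator_eq_bot_iff_le_centralizer, coe_top, centralizer_univ] at e
      have h2 := card_le_of_le e
      rw [hEc, hZc] at h2
      have h4 : p ^ 1 < p ^ 2 := (Nat.pow_lt_pow_iff_right hpp.one_lt).2 (by norm_num)
      rw [pow_one] at h4
      omega
    have h2 : ⁅E, (⊤ : Subgroup R)⁆ = center R := by
      apply eq_of_le_of_card_ge hEZ
      rw [hZc]
      have h3 := card_dvd_of_le hEZ
      rw [hZc] at h3
      rcases (Nat.dvd_prime hpp).1 h3 with h3 | h3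
      · exact absurd (card_eq_one.1 h3) h1
      · exact h3.ge
    have h3 : center R ≤ P ⊓ E := by
      apply le_inf
      · rw [h.center_eq]; exact zpowers_le.2 h.hzP
      · rw [← h2]; exact commutator_le_left E ⊤
    refine (eq_of_le_of_card_ge h3 ?_).ge
    rw [hZc]
    have h4 := card_dvd_of_le (inf_le_left : P ⊓ E ≤ P)
    rw [h.hPc] at h4
    obtain ⟨j, -, hj'⟩ := (Nat.dvd_prime_pow hpp).1 h4
    have hj2 : j ≠ 2 := by
      intro e
      have h5 : P ⊓ E = P := eq_of_le_of_card_ge inf_le_left (by rw [hj', e, h.hPc])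
      have h6 : P ≤ E := h5 ▸ inf_le_right
      have h7 : P = E := eq_of_le_of_card_ge h6 (by rw [hEc, h.hPc])
      apply hTtop
      rw [hT, h7]
      exact normalizer_eq_top_iff.2 hEn
    have hj3 : j ≤ 2 := by
      have h5 := card_le_of_le (inf_le_left : P ⊓ E ≤ P)
      rw [hj', h.hPc] at h5
      exact (Nat.pow_le_pow_iff_right hpp.one_lt).1 h5
    rw [hj']
    calc p ^ j ≤ p ^ 1 := Nat.pow_le_pow_right hpp.pos (by omega)
      _ = p := pow_one p

end

end Cfsg.Agent.Lib.Helper50
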