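import Cfsg.Agent.Lib.Helper50.OmegaRank
import Cfsg.Agent.Lib.Helper50.AutPlane2
import Cfsg.Agent.S0029
import Cfsg.Agent.S0120
import Cfsg.Agent.S0012

/-! General lemmas on the action of a finite group on a normal section. -/

set_option autoImplicit false

namespace Cfsg.Agent.Lib.Helper50

open Subgroup

section
variable {M : Type*} [Group M]

instance sectionNormal (X Y : Subgroup M) [hX : X.Normal] [Y.Normal] :
    (X.map (QuotientGroup.mk' Y)).Normal := hX.map _ (QuotientGroup.mk'_surjective Y)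

/-- action of `M` on the section `X Y / Y` -/
noncomputable def sectionAct (X Y : Subgroup M) [X.Normal] [Y.Normal] :
    M →* MulAut ↥(X.map (QuotientGroup.mk' Y)) :=
  (MulAut.conjNormal).comp (QuotientGroup.mk' Y)

theorem sectionAct_apply (X Y : Subgroup M) [X.Normal] [Y.Normal] (x : M)
    (w : ↥(X.map (QuotientGroup.mk' Y))) :
    ((sectionAct X Y x w : ↥(X.map (QuotientGroup.mk' Y))) : M ⧸ Y) =
      (x : M ⧸ Y) * w * (x : M ⧸ Y)⁻¹ := rfl

theorem mem_ker_sectionAct (X Y : Subgroup M) [X.Normal] [Y.Normal] (x : M) :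
    x ∈ (sectionAct X Y).ker ↔ ∀ w ∈ X, x * w * x⁻¹ * w⁻¹ ∈ Y := by
  rw [MonoidHom.mem_ker]
  constructor
  · intro h w hw
    have h1 := congrArg (fun f : MulAut ↥(X.map (QuotientGroup.mk' Y)) =>
      ((f ⟨(w : M ⧸ Y), ⟨w, hw, rfl⟩⟩ : ↥(X.map (QuotientGroup.mk' Y))) : M ⧸ Y)) h
    simp only [sectionAct_apply, MulAut.one_apply] at h1
    rw [← QuotientGroup.eq_one_iff]
    rw [QuotientGroup.mk_mul, QuotientGroup.mk_mul, QuotientGroup.mk_mul, QuotientGroup.mk_inv,
      QuotientGroup.mk_inv, h1, mul_inv_cancel]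
  · intro h
    ext ⟨_, w, hw, rfl⟩
    rw [sectionAct_apply, MulAut.one_apply]
    have h1 := (QuotientGroup.eq_one_iff _).2 (h w hw)
    rw [QuotientGroup.mk_mul, QuotientGroup.mk_mul, QuotientGroup.mk_mul, QuotientGroup.mk_inv,
      QuotientGroup.mk_inv] at h1
    exact mul_inv_eq_one.1 h1

variable [Finite M]

theorem isPGroup_of_no_prime_order {p : ℕ} (N : Subgroup M)
    (h : ∀ q : ℕ, q.Prime → q ≠ p → ∀ x ∈ N, orderOf x ≠ q) : IsPGroup p N := by
  apply IsPGroup.of_card (n := (Nat.card N).primeFactorsList.length)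
  apply Nat.eq_prime_pow_of_unique_prime_dvd Nat.card_pos.ne'
  intro d hd hdvd
  by_contra hne
  haveI : Fact d.Prime := ⟨hd⟩
  obtain ⟨x, hx⟩ := exists_prime_orderOf_dvd_card' d hdvd
  apply h d hd hne x x.2
  rw [← hx, Subgroup.orderOf_coe]

/-- a `p'`-element acting trivially on the Frattini quotient of a normal `p`-subgroup centralizes it -/
theorem centralizes_of_frattini {p : ℕ} [Fact p.Prime] (X : Subgroup M) [hX : X.Normal]
    (hXp : IsPGroup p X) (x : M) (q : ℕ) (hq : q.Prime) (hqp : q ≠ p) (hx : orderOf x = q)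
    (h : ∀ w ∈ X, x * w * x⁻¹ * w⁻¹ ∈ (frattini X).map X.subtype) :
    x ∈ centralizer (X : Set M) := by
  have hpp : p.Prime := Fact.out
  have h1 : zpowers x ≤ centralizer (X : Set M) := by
    apply Cfsg.Agent.S0029.result (zpowers x) X
    · rw [normalizer_eq_top]; exact le_top
    · rw [Nat.card_zpowers, hx]
      obtain ⟨k, hk⟩ := (IsPGroup.iff_card).1 (hXp.to_subgroup (frattini X))
      rw [hk]
      exact Nat.Coprime.pow_right _ ((Nat.coprime_primes hq hpp).2 hqp)
    · -- the set of elements acting trivially is a subgroup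
      haveI : ((frattini X).map X.subtype).Normal := inferInstance
      have h2 : zpowers x ≤ (sectionAct X ((frattini X).map X.subtype)).ker := by
        rw [zpowers_le, mem_ker_sectionAct]; exact h
      intro a ha
      exact (mem_ker_sectionAct X _ a).1 (h2 ha)
  exact h1 (mem_zpowers x)

/-- a `p'`-element of prime order cannot lie in a `p`-group -/
theorem not_mem_of_orderOf_prime {p : ℕ} [Fact p.Prime] (X : Subgroup M)
    (hXp : IsPGroup p X) (x : M) (q : ℕ) (hq : q.Prime) (hqp : q ≠ p) (hx : orderOf x = q) :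
    x ∉ X := by
  have hpp : p.Prime := Fact.out
  intro hxX
  obtain ⟨k, hk⟩ := hXp ⟨x, hxX⟩
  have hk' : x ^ (p ^ k) = 1 := congrArg Subtype.val hk
  have h1 := orderOf_dvd_of_pow_eq_one hk'
  rw [hx] at h1
  exact hqp ((Nat.prime_dvd_prime_iff_eq hq hpp).1 (hq.dvd_of_dvd_pow h1))

/-- kernel of the action on the Frattini quotient of `E = O_p(M)`, `C_M(E) ≤ E` -/
theorem ker_frattini_isPGroup {p : ℕ} [Fact p.Prime] (E : Subgroup M) [hE : E.Normal]
    (hEp : IsPGroup p E) (hC : centralizer (E : Set M) ≤ E) :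
    IsPGroup p (sectionAct E ((frattini E).map E.subtype)).ker := by
  apply isPGroup_of_no_prime_order
  intro q hq hqp x hx hxq
  apply not_mem_of_orderOf_prime E hEp x q hq hqp hxq
  apply hC
  exact centralizes_of_frattini E hEp x q hq hqp hxq ((mem_ker_sectionAct _ _ _).1 hx)

/-- kernel of the action on `Ω₁(E) / Ω₁(E)'` -/
theorem ker_Om_isPGroup {p : ℕ} [Fact p.Prime] (hp2 : p ≠ 2) (E : Subgroup M) [hE : E.Normal]
    (hEp : IsPGroup p E) (hC : centralizer (E : Set M) ≤ E)
    (W N : Subgroup M) [W.Normal] [N.Normal] (hW : W = Om p E) (hN : N = ⁅W, W⁆) :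
    IsPGroup p (sectionAct W N).ker := by
  have hpp : p.Prime := Fact.out
  have hWE : W ≤ E := hW ▸ Om_le p E
  have hWp : IsPGroup p W := hEp.to_le hWE
  apply isPGroup_of_no_prime_order
  intro q hq hqp x hx hxq
  apply not_mem_of_orderOf_prime E hEp x q hq hqp hxq
  apply hC
  have h1 : x ∈ centralizer (W : Set M) := by
    apply centralizes_of_frattini W hWp x q hq hqp hxq
    intro w hw
    have h2 := (mem_ker_sectionAct _ _ _).1 hx w hw
    have h3 : N ≤ (frattini W).map W.subtype := by
      rw [hN, ← map_subtype_commutator]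
      exact map_mono (Cfsg.Agent.S0012.result p hWp).1
    exact h3 h2
  -- now use S0120
  have h2 : (MulAut.conjNormal x : MulAut E) = 1 := by
    apply Cfsg.Agent.S0120.result hp2 hEp
    · have h3 : orderOf (MulAut.conjNormal x : MulAut E) ∣ q := by
        rw [← hxq]; exact orderOf_map_dvd _ x
      exact Nat.Coprime.coprime_dvd_left h3 ((Nat.coprime_primes hq hpp).2 hqp)
    · intro y hy
      have hyW : (y : M) ∈ W := by
        rw [hW]
        apply mem_Om y.2
        exact congrArg Subtype.val hy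
      apply Subtype.ext
      rw [MulAut.conjNormal_apply]
      have := (mem_centralizer_iff.1 h1) y hyW
      rw [← this, mul_inv_cancel_right]
  rw [mem_centralizer_iff]
  intro y hy
  have h3 := congrArg (fun f : MulAut E => ((f ⟨y, hy⟩ : E) : M)) h2
  simp only [MulAut.conjNormal_apply, MulAut.one_apply] at h3
  exact (mul_inv_eq_iff_eq_mul.1 h3).symm

end

end Cfsg.Agent.Lib.Helper50
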