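import Cfsg.Agent.Lib.Helper50.RankTwoCore1

/-! Pieces of the theorem: `O_p(M)` is elementary abelian if `M` has `p`-rank `≤ 2`, `p > 3`,
`F*(M) = O_p(M)` is not a Sylow subgroup. -/

set_option autoImplicit false

namespace Cfsg.Agent.Lib.Helper50

open Subgroup
open scoped commutatorElement

theorem isPGroup_zpowers' {Γ : Type*} [Group Γ] {p : ℕ} (g : Γ) (k : ℕ) (hg : g ^ p ^ k = 1) :
    IsPGroup p (zpowers g) := by
  rintro ⟨y, hy⟩
  obtain ⟨n, rfl⟩ := mem_zpowers_iff.1 hy
  refine ⟨k, Subtype.ext ?_⟩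
  show (g ^ n) ^ (p ^ k) = 1
  rw [← zpow_natCast, ← zpow_mul, mul_comm, zpow_mul, zpow_natCast, hg, one_zpow]

theorem exists_two_sylows_range {M Γ : Type*} [Group M] [Finite M] [Group Γ] {p : ℕ}
    [Fact p.Prime] (ρ : M →* Γ) (hker : IsPGroup p ρ.ker) (E : Subgroup M)
    (hmax : ∀ N : Subgroup M, N.Normal → IsPGroup p N → N ≤ E)
    (x : M) (k : ℕ) (hx : x ^ p ^ k = 1) (hxE : x ∉ E) :
    ∃ P₁ P₂ : Sylow p ρ.range, P₁ ≠ P₂ := by
  by_contra hcon
  push Not at hcon
  haveI : Subsingleton (Sylow p ρ.range) := ⟨hcon⟩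
  obtain ⟨Q⟩ : Nonempty (Sylow p ρ.range) := Sylow.nonempty
  have hn : (Q : Subgroup ρ.range).Normal := Sylow.normal_of_subsingleton Q
  apply hxE
  apply hmax ((Q : Subgroup ρ.range).comap ρ.rangeRestrict) (hn.comap _)
    (Q.isPGroup'.comap_of_ker_isPGroup _ (by rw [MonoidHom.ker_rangeRestrict]; exact hker))
  rw [mem_comap]
  have h1 : IsPGroup p (zpowers (ρ.rangeRestrict x)) := by
    apply isPGroup_zpowers' _ k
    rw [← map_pow, hx, map_one]
  obtain ⟨Q', hQ'⟩ := h1.exists_le_sylow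
  rw [Subsingleton.elim Q Q']
  exact hQ' (mem_zpowers _)

theorem card_map_mk_mul {M : Type*} [Group M] (W N : Subgroup M) [N.Normal] (hNW : N ≤ W) :
    Nat.card N * Nat.card (W.map (QuotientGroup.mk' N)) = Nat.card W := by
  rw [← relIndex_ker, QuotientGroup.ker_mk', ← (N.subgroupOf W).card_mul_index]
  congr 1
  exact (Nat.card_congr (subgroupOfEquivOfLe hNW).toEquiv).symm

section
variable {M : Type*} [Group M] [Finite M] {p : ℕ} [Fact p.Prime]

theorem section_comm (W N : Subgroup M) [N.Normal] (hN : N = ⁅W, W⁆)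
    (x y : ↥(W.map (QuotientGroup.mk' N))) : x * y = y * x := by
  obtain ⟨_, w, hw, rfl⟩ := x
  obtain ⟨_, w', hw', rfl⟩ := y
  apply Subtype.ext
  show (w : M ⧸ N) * (w' : M ⧸ N) = (w' : M ⧸ N) * (w : M ⧸ N)
  rw [← QuotientGroup.mk_mul, ← QuotientGroup.mk_mul, QuotientGroup.eq, hN]
  have := commutator_mem_commutator (inv_mem hw') (inv_mem hw)
  rw [commutatorElement_def] at this
  simpa [mul_assoc] using this

theorem section_exp (W N : Subgroup M) [N.Normal] (hW : ∀ w ∈ W, w ^ p = 1)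
    (x : ↥(W.map (QuotientGroup.mk' N))) : x ^ p = 1 := by
  obtain ⟨_, w, hw, rfl⟩ := x
  apply Subtype.ext
  show (w : M ⧸ N) ^ p = 1
  rw [← QuotientGroup.mk_pow, hW w hw]; rfl

theorem section_card_le (hp : 3 < p) (hr : Cfsg.PRankLE p 2 M) (E : Subgroup M)
    (hEp : IsPGroup p E) (W N : Subgroup M) [N.Normal] (hW : W = Om p E) (hN : N = ⁅W, W⁆) :
    Nat.card (W.map (QuotientGroup.mk' N)) ≤ p ^ 2 := by
  have hpp : p.Prime := Fact.out
  have hNW : N ≤ W := by rw [hN]; exact commutator_le_self W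
  have h1 := card_map_mk_mul W N hNW
  have hWp : IsPGroup p W := hEp.to_le (hW ▸ Om_le p E)
  have hWexp : ∀ w ∈ W, w ^ p = 1 := fun w hw => Om_pow hp hr hEp (hW ▸ hw)
  by_cases hb : N = ⊥
  · have h2 : Nat.card W ≤ p ^ 2 := by
      apply hr W _ hWexp
      constructor
      constructor
      rintro ⟨a, ha⟩ ⟨b, hb'⟩
      apply Subtype.ext
      show a * b = b * a
      have h3 : ⁅a, b⁆ ∈ N := by rw [hN]; exact commutator_mem_commutator ha hb'
      rw [hb, mem_bot, commutatorElement_eq_one_iff_mul_comm] at h3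
      exact h3
    have hc1 : Nat.card N = 1 := by rw [hb]; exact card_bot
    rw [hc1, one_mul] at h1
    rw [h1]; exact h2
  · have h2 : p ≤ Nat.card N := by
      obtain ⟨j, hj⟩ := (IsPGroup.iff_card).1 (hWp.to_le hNW)
      rw [hj]
      rcases j with _ | j
      · exfalso; apply hb
        rw [pow_zero] at hj
        exact card_eq_one.1 hj
      · rw [pow_succ]
        exact Nat.le_mul_of_pos_left _ (pow_pos hpp.pos _)
    have h3 : Nat.card W ≤ p ^ 3 := by rw [hW]; exact Om_card_le hp hr hEp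
    have h4 : p * Nat.card (W.map (QuotientGroup.mk' N)) ≤ p * p ^ 2 := by
      calc p * Nat.card (W.map (QuotientGroup.mk' N))
          ≤ Nat.card N * Nat.card (W.map (QuotientGroup.mk' N)) := Nat.mul_le_mul_right _ h2
        _ = Nat.card W := h1
        _ ≤ p ^ 3 := h3
        _ = p * p ^ 2 := by ring
    exact Nat.le_of_mul_le_mul_left h4 hpp.pos

end

section
variable {V : Type*} [Group V] [Finite V] {p : ℕ} [Fact p.Prime]

theorem card_eq_sq_of_two_sylows (hle : Nat.card V ≤ p ^ 2) (hV : IsPGroup p V)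
    (A : Subgroup (MulAut V)) (P₁ P₂ : Sylow p A) (hne : P₁ ≠ P₂) : Nat.card V = p ^ 2 := by
  have hpp : p.Prime := Fact.out
  have hncyc : ¬ IsCyclic V := by
    intro hc
    have hcomm : ∀ a b : MulAut V, a * b = b * a := by
      intro a b
      apply (IsCyclic.mulAutMulEquiv V).injective
      rw [map_mul, map_mul, mul_comm]
    have hn : (P₁ : Subgroup A).Normal := by
      constructor
      intro n hn g
      have : g * n * g⁻¹ = n := by
        apply Subtype.ext
        show (g : MulAut V) * n * (g : MulAut V)⁻¹ = n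
        rw [hcomm (g : MulAut V) n, mul_assoc, mul_inv_cancel, mul_one]
      rw [this]; exact hn
    haveI : Finite (MulAut V) := Finite.of_injective (fun f : MulAut V => (f : V → V))
      (fun f g h => MulEquiv.ext (congrFun h))
    have := (Sylow.unique_of_normal P₁ hn).instSubsingleton
    exact hne (Subsingleton.elim _ _)
  obtain ⟨j, hj⟩ := (IsPGroup.iff_card).1 hV
  rw [hj] at hle ⊢
  have hj2 : j ≤ 2 := (Nat.pow_le_pow_iff_right hpp.one_lt).1 hle
  have : j = 2 := by
    by_contra hc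
    apply hncyc
    have hj1 : j = 0 ∨ j = 1 := by omega
    rcases hj1 with rfl | rfl
    · rw [pow_zero] at hj
      haveI : Subsingleton V := (Nat.card_eq_one_iff_unique.1 hj).1
      exact isCyclic_of_subsingleton
    · rw [pow_one] at hj
      exact isCyclic_of_prime_card hj
  rw [this]

theorem normal_pSubgroup_trivial (hcomm : ∀ x y : V, x * y = y * x) (hV : Nat.card V = p ^ 2)
    (hexp : ∀ x : V, x ^ p = 1)
    (A : Subgroup (MulAut V)) (P₁ P₂ : Sylow p A) (hne : P₁ ≠ P₂) (B : Subgroup (MulAut V))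
    (hB : IsPGroup p B) (hBn : ∀ α ∈ A, ∀ b ∈ B, α⁻¹ * b * α ∈ B) : B = ⊥ := by
  letI inst : CommGroup V := { (inferInstance : Group V) with mul_comm := hcomm }
  obtain ⟨z, hz1, hz⟩ := exists_fixed_of_isPGroup hV B hB
  obtain ⟨α, hαA, hα⟩ := exists_moved_of_two_sylows hV hexp A P₁ P₂ hne z hz1
  rw [eq_bot_iff]
  intro b hb
  rw [mem_bot]
  apply aut_eq_one_of_fix hV hexp z (α z) hz1 hα b (hz b hb)
  have h1 := hz _ (hBn α hαA b hb)
  rw [MulAut.mul_apply, MulAut.mul_apply, MulAut.inv_apply, MulEquiv.symm_apply_eq] at h1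
  exact h1

end

end Cfsg.Agent.Lib.Helper50
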