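import Cfsg.Agent.Lib.Helper50.RankTwoCore2
import Cfsg.Agent.Lib.Helper50.QdExt3
import Cfsg.Agent.S5185

/-! `O_p(M)` is elementary abelian if `M` has `p`-rank `≤ 2`, `p > 3`, and
`F*(M) = O_p(M)` is not a Sylow subgroup. -/

set_option autoImplicit false

namespace Cfsg.Agent.Lib.Helper50

open Subgroup Matrix Cfsg.Agent.Lib.Helper46.Qd Cfsg.Agent.Lib.Helper46.SL2Nat
open scoped commutatorElement

theorem frattini_core_eq_bot {M : Type*} [Group M] [Finite M] {p : ℕ} [Fact p.Prime] (hp : 3 < p)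
    (hr : Cfsg.PRankLE p 2 M) (E : Subgroup M) [hEn : E.Normal] (hEp : IsPGroup p E)
    (hmax : ∀ N : Subgroup M, N.Normal → IsPGroup p N → N ≤ E)
    (hC : centralizer (E : Set M) ≤ E)
    (x : M) (k : ℕ) (hx : x ^ p ^ k = 1) (hxE : x ∉ E) :
    frattini ↥E = ⊥ := by
  have hpp : p.Prime := Fact.out
  have hp2 : p ≠ 2 := by omega
  obtain ⟨W, hW⟩ : ∃ W, W = Om p E := ⟨_, rfl⟩
  haveI hWn : W.Normal := hW ▸ Om_normal p E
  obtain ⟨N, hN⟩ : ∃ N, N = ⁅W, W⁆ := ⟨_, rfl⟩
  haveI hNn : N.Normal := hN ▸ commutator_normal W W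
  obtain ⟨ρ, hρ⟩ : ∃ ρ, ρ = sectionAct W N := ⟨_, rfl⟩
  have hker : IsPGroup p ρ.ker := hρ ▸ ker_Om_isPGroup hp2 E hEp hC W N hW hN
  have hkerE : ρ.ker ≤ E := hmax _ inferInstance hker
  obtain ⟨P₁, P₂, hne⟩ := exists_two_sylows_range ρ hker E hmax x k hx hxE
  have hcomm := section_comm W N hN
  have hexp := section_exp (p := p) W N (fun w hw => Om_pow hp hr hEp (hW ▸ hw))
  have hVp : IsPGroup p ↥(W.map (QuotientGroup.mk' N)) :=
    (hEp.to_le (hW ▸ Om_le p E)).map _
  have hcard := card_eq_sq_of_two_sylows (section_card_le hp hr E hEp W N hW hN) hVp ρ.range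
    P₁ P₂ hne
  have hEker : E ≤ ρ.ker := by
    have h1 : E.map ρ = ⊥ := by
      apply normal_pSubgroup_trivial hcomm hcard hexp ρ.range P₁ P₂ hne (E.map ρ) (hEp.map ρ)
      rintro _ ⟨m, rfl⟩ _ ⟨e, he, rfl⟩
      refine ⟨m⁻¹ * e * m, ?_, by simp⟩
      have := hEn.conj_mem e he m⁻¹
      simpa using this
    exact (map_eq_bot_iff E).1 h1
  have hkereq : ρ.ker = E := le_antisymm hkerE hEker
  obtain ⟨φ⟩ := Cfsg.Agent.Lib.Helper30.nonempty_mulAut_equiv_GL' _ p 2 hcomm hexp hcard
  obtain ⟨K, ⟨e⟩⟩ := Cfsg.Agent.S5185.exists_sl2_of_two_sylows p φ ρ.range P₁ P₂ hne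
  obtain ⟨G₁, hG₁⟩ : ∃ G₁, G₁ = K.comap ρ.rangeRestrict := ⟨_, rfl⟩
  subst hG₁
  obtain ⟨β, hβ⟩ : ∃ β : ↥(K.comap ρ.rangeRestrict) →* SpecialLinearGroup (Fin 2) (ZMod p),
    β = e.toMonoidHom.comp (ρ.rangeRestrict.subgroupComap K) := ⟨_, rfl⟩
  have hβs : Function.Surjective β := by
    rw [hβ]
    exact e.surjective.comp
      (MonoidHom.subgroupComap_surjective_of_surjective _ _ ρ.rangeRestrict_surjective)
  have hβk : ∀ t : ↥(K.comap ρ.rangeRestrict), t ∈ β.ker ↔ (t : M) ∈ E := by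
    intro t
    rw [MonoidHom.mem_ker, hβ, ← hkereq, MonoidHom.mem_ker]
    simp only [MonoidHom.coe_comp, Function.comp_apply, MulEquiv.coe_toMonoidHom]
    rw [EmbeddingLike.map_eq_one_iff]
    constructor
    · intro h
      have := congrArg (fun y : K => ((y : ρ.range) : MulAut ↥(W.map (QuotientGroup.mk' N)))) h
      exact this
    · intro h
      apply Subtype.ext
      apply Subtype.ext
      exact h
  have hEG : E ≤ K.comap ρ.rangeRestrict := by
    intro y hy
    rw [mem_comap]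
    have : ρ.rangeRestrict y = 1 := by
      apply Subtype.ext
      exact hEker hy
    rw [this]; exact one_mem _
  have h2 : (2 : ZMod p) ≠ 0 := by
    intro h
    have : ((2 : ℕ) : ZMod p) = 0 := by exact_mod_cast h
    rw [ZMod.natCast_eq_zero_iff] at this
    have := Nat.le_of_dvd (by norm_num) this
    omega
  have h3 : (3 : ZMod p) ≠ 0 := by
    intro h
    have : ((3 : ℕ) : ZMod p) = 0 := by exact_mod_cast h
    rw [ZMod.natCast_eq_zero_iff] at this
    have := Nat.le_of_dvd (by norm_num) this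
    omega
  set z : SpecialLinearGroup (Fin 2) (ZMod p) := mk2 (-1) 0 0 (-1) (by ring) with hz
  have hz1 : z ≠ 1 := by
    intro h
    have h4 := congrArg (fun s : SpecialLinearGroup (Fin 2) (ZMod p) => s 0 0) h
    simp [hz] at h4
    apply h2
    linear_combination -h4
  haveI hΦn : ((frattini E).map E.subtype).Normal := inferInstance
  have hU : ((frattini E).map E.subtype).subgroupOf (K.comap ρ.rangeRestrict) = ⊥ := by
    refine eq_bot_of_rank_two hp β hβs ?_ ?_ z ?_ ?_ ?_ _ ?_ ?_ ?_ ?_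
    · refine Matrix.SL2.commutator_eq_top (a := (2 : ZMod p)) h2 ?_
      intro h
      apply h3
      linear_combination h
    · have h1 : orderOf (u (1 : ZMod p)) = p := by
        apply orderOf_eq_prime
        · rw [u_pow, nsmul_eq_mul, mul_one, CharP.cast_eq_zero, u_zero]
        · rw [Ne, u_eq_one_iff]; exact one_ne_zero
      have h4 := orderOf_dvd_natCard (u (1 : ZMod p))
      rwa [h1] at h4
    · apply ext2 <;> simp [hz, mul_00, mul_01, mul_10, mul_11]
    · intro s
      apply ext2 <;> simp [hz, mul_00, mul_01, mul_10, mul_11]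
    · have h4 : β.ker = E.subgroupOf (K.comap ρ.rangeRestrict) := by
        ext t
        rw [hβk, mem_subgroupOf]
      rw [h4]
      exact hEp.comap_of_injective _ (subtype_injective _)
    · intro t ht
      rw [hβk]
      rw [mem_subgroupOf] at ht
      exact map_subtype_le _ ht
    · intro t ht
      by_contra hcon
      push Not at hcon
      apply hz1
      rw [← ht]
      have h4 : t ∈ β.ker := by
        rw [hβk]
        apply hC
        rw [mem_centralizer_iff]
        intro y hy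
        have h5 := hcon ⟨y, hEG hy⟩ ((hβk _).2 hy)
        exact (congrArg Subtype.val h5.eq).symm
      exact h4
    · intro t ht
      rw [hβk]
      apply hmax _ inferInstance (ker_frattini_isPGroup E hEp hC)
      rw [mem_ker_sectionAct]
      intro w hw
      have h4 := ht ⟨w, hEG hw⟩ ((hβk _).2 hw)
      rw [mem_subgroupOf] at h4
      have h5 := inv_mem h4
      simpa [mul_assoc] using h5
    · exact fun A h1 h2 => rank_subtype hr _ A ⟨h1, h2⟩
  rw [subgroupOf_eq_bot] at hU
  have h4 := hU.eq_bot_of_le ((map_subtype_le _).trans hEG)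
  exact (map_eq_bot_iff_of_injective _ (subtype_injective _)).1 h4

/-- consequence: `E` is elementary abelian of order at most `p ^ 2` -/
theorem core_elemAb {M : Type*} [Group M] [Finite M] {p : ℕ} [Fact p.Prime] (hp : 3 < p)
    (hr : Cfsg.PRankLE p 2 M) (E : Subgroup M) [hEn : E.Normal] (hEp : IsPGroup p E)
    (hmax : ∀ N : Subgroup M, N.Normal → IsPGroup p N → N ≤ E)
    (hC : centralizer (E : Set M) ≤ E)
    (x : M) (k : ℕ) (hx : x ^ p ^ k = 1) (hxE : x ∉ E) :
    Cfsg.IsElementaryAbelian p E ∧ Nat.card E ≤ p ^ 2 := by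
  have h1 := frattini_core_eq_bot hp hr E hEp hmax hC x k hx hxE
  have h2 := Cfsg.Agent.S0012.result p hEp
  rw [h1] at h2
  have h3 : Cfsg.IsElementaryAbelian p E := by
    refine ⟨⟨⟨fun a b => ?_⟩⟩, fun a ha => ?_⟩
    · have h4 : ⁅a, b⁆ ∈ commutator E := commutator_mem_commutator (mem_top a) (mem_top b)
      have h5 := h2.1 h4
      rw [mem_bot, commutatorElement_eq_one_iff_mul_comm] at h5
      exact h5
    · have h4 := h2.2 ⟨a, ha⟩
      rw [mem_bot] at h4
      exact congrArg Subtype.val h4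
  exact ⟨h3, hr E h3.1 h3.2⟩

end Cfsg.Agent.Lib.Helper50
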