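import Cfsg.Agent.Lib.Helper50.HSub2

set_option autoImplicit false

namespace Cfsg.Agent.Lib.Helper50

open Cfsg.Agent.Lib.Helper22

variable {G : Type*} [Group G]

/-- an element acting trivially (via `quotAut`) on a section `T / T₁` moves the elements of `T` inside their cosets. -/
theorem conj_mul_inv_mem_of_quotAut_eq_one {T T₁ : Subgroup G}
    (hn : T ≤ Subgroup.normalizer (T₁ : Set G)) [(T₁.subgroupOf T).Normal]
    (t : (Subgroup.normalizer (T : Set G) ⊓ Subgroup.normalizer (T₁ : Set G) : Subgroup G))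
    (h1 : quotAut T T₁ t = 1) {a : G} (ha : a ∈ T) : (t : G) * a * (t : G)⁻¹ * a⁻¹ ∈ T₁ := by
  have h2 := quotAut_mk T T₁ t ⟨a, ha⟩
  rw [h1, MulAut.one_apply] at h2
  have h3 := QuotientGroup.eq.mp h2
  rw [Subgroup.mem_subgroupOf] at h3
  have h4 : a⁻¹ * ((t : G) * a * (t : G)⁻¹) ∈ T₁ := by simpa using h3
  have h5 : (t : G) * a * (t : G)⁻¹ * a⁻¹ = a * (a⁻¹ * ((t : G) * a * (t : G)⁻¹)) * a⁻¹ := by group
  rw [h5]
  exact (Subgroup.mem_normalizer_iff.mp (hn ha) _).mp h4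

/-- **Sections of order `p`**: commutators, `(p - 1)`-th powers and elements of order prime to `p - 1` act
trivially. -/
theorem section_prime_facts [Finite G] {p : ℕ} [Fact p.Prime] {T T₁ : Subgroup G} (hle : T₁ ≤ T)
    (hn : T ≤ Subgroup.normalizer (T₁ : Set G)) (hidx : T₁.relIndex T = p) :
    (∀ g ∈ Subgroup.normalizer (T : Set G) ⊓ Subgroup.normalizer (T₁ : Set G),
      ∀ h ∈ Subgroup.normalizer (T : Set G) ⊓ Subgroup.normalizer (T₁ : Set G), ∀ a ∈ T,
        (g * h * g⁻¹ * h⁻¹) * a * (g * h * g⁻¹ * h⁻¹)⁻¹ * a⁻¹ ∈ T₁) ∧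
    (∀ g ∈ Subgroup.normalizer (T : Set G) ⊓ Subgroup.normalizer (T₁ : Set G), ∀ a ∈ T,
        g ^ (p - 1) * a * (g ^ (p - 1))⁻¹ * a⁻¹ ∈ T₁) ∧
    (∀ g ∈ Subgroup.normalizer (T : Set G) ⊓ Subgroup.normalizer (T₁ : Set G),
      (orderOf g).Coprime (p - 1) → ∀ a ∈ T, g * a * g⁻¹ * a⁻¹ ∈ T₁) := by
  have hp : p.Prime := Fact.out
  have hnorm : (T₁.subgroupOf T).Normal := (Subgroup.normal_subgroupOf_iff_le_normalizer hle).mpr hn
  have hcard : Nat.card (↥T ⧸ T₁.subgroupOf T) = p := by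
    rw [← Subgroup.index_eq_card]; exact hidx
  have hcyc : IsCyclic (↥T ⧸ T₁.subgroupOf T) := isCyclic_of_prime_card hcard
  have hfin : Finite (↥T ⧸ T₁.subgroupOf T) := inferInstance
  have haut : Nat.card (MulAut (↥T ⧸ T₁.subgroupOf T)) = p - 1 := by
    rw [IsCyclic.card_mulAut, hcard, Nat.totient_prime hp]
  have hfin2 : Finite (MulAut (↥T ⧸ T₁.subgroupOf T)) := by
    apply Nat.finite_of_card_ne_zero
    rw [haut]
    have := hp.one_lt
    omega
  have hcommAut : ∀ α β : MulAut (↥T ⧸ T₁.subgroupOf T), α * β = β * α := by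
    intro α β
    apply (IsCyclic.mulAutMulEquiv (↥T ⧸ T₁.subgroupOf T)).injective
    rw [map_mul, map_mul, mul_comm]
  refine ⟨?_, ?_, ?_⟩
  · intro g hg h hh a ha
    let g' : (Subgroup.normalizer (T : Set G) ⊓ Subgroup.normalizer (T₁ : Set G) : Subgroup G) :=
      ⟨g, hg⟩
    let h' : (Subgroup.normalizer (T : Set G) ⊓ Subgroup.normalizer (T₁ : Set G) : Subgroup G) :=
      ⟨h, hh⟩
    have h1 : quotAut T T₁ (g' * h' * g'⁻¹ * h'⁻¹) = 1 := by
      rw [map_mul, map_mul, map_mul, map_inv, map_inv, hcommAut (quotAut T T₁ g')]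
      group
    exact conj_mul_inv_mem_of_quotAut_eq_one hn _ h1 ha
  · intro g hg a ha
    let g' : (Subgroup.normalizer (T : Set G) ⊓ Subgroup.normalizer (T₁ : Set G) : Subgroup G) :=
      ⟨g, hg⟩
    have h1 : quotAut T T₁ (g' ^ (p - 1)) = 1 := by
      rw [map_pow, ← haut]
      exact pow_card_eq_one'
    exact conj_mul_inv_mem_of_quotAut_eq_one hn _ h1 ha
  · intro g hg hcop a ha
    let g' : (Subgroup.normalizer (T : Set G) ⊓ Subgroup.normalizer (T₁ : Set G) : Subgroup G) :=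
      ⟨g, hg⟩
    have h1 : quotAut T T₁ g' = 1 := by
      apply map_eq_one_of_coprime
      rw [haut]
      have : orderOf g' = orderOf g := Subgroup.orderOf_mk g _
      rw [this]
      exact hcop
    exact conj_mul_inv_mem_of_quotAut_eq_one hn _ h1 ha

/-- the elements of `G` acting trivially on every section `X / Y` of order `p` with `Y ≤ X ≤ Q` normal in `G`. -/
def secKer (p : ℕ) (Q : Subgroup G) : Subgroup G where
  carrier := {y | ∀ X Y : Subgroup G, X.Normal → Y.Normal → Y ≤ X → X ≤ Q → Y.relIndex X = p →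
    ∀ x ∈ X, y * x * y⁻¹ * x⁻¹ ∈ Y}
  one_mem' := by
    intro X Y _ _ _ _ _ x _
    simp
  mul_mem' := by
    intro a b ha hb X Y hX hY hle hXQ hidx x hx
    have h1 := hb X Y hX hY hle hXQ hidx x hx
    have h2 := ha X Y hX hY hle hXQ hidx x hx
    have h3 : a * b * x * (a * b)⁻¹ * x⁻¹ =
        a * (b * x * b⁻¹ * x⁻¹) * a⁻¹ * (a * x * a⁻¹ * x⁻¹) := by group
    rw [h3]
    exact Y.mul_mem (hY.conj_mem _ h1 a) h2
  inv_mem' := by
    intro a ha X Y hX hY hle hXQ hidx x hx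
    have hx' : a⁻¹ * x * a ∈ X := by
      have := hX.conj_mem x hx a⁻¹
      simpa using this
    have h1 := ha X Y hX hY hle hXQ hidx _ hx'
    have h2 : a⁻¹ * x * a⁻¹⁻¹ * x⁻¹ = (a * (a⁻¹ * x * a) * a⁻¹ * (a⁻¹ * x * a)⁻¹)⁻¹ := by group
    rw [h2]
    exact Y.inv_mem h1

theorem mem_secKer {p : ℕ} {Q : Subgroup G} {y : G} : y ∈ secKer p Q ↔
    ∀ X Y : Subgroup G, X.Normal → Y.Normal → Y ≤ X → X ≤ Q → Y.relIndex X = p →
      ∀ x ∈ X, y * x * y⁻¹ * x⁻¹ ∈ Y := Iff.rfl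

instance secKer_normal (p : ℕ) (Q : Subgroup G) : (secKer p Q).Normal := by
  constructor
  intro a ha g X Y hX hY hle hXQ hidx x hx
  have hx' : g⁻¹ * x * g ∈ X := by
    have := hX.conj_mem x hx g⁻¹
    simpa using this
  have h1 := ha X Y hX hY hle hXQ hidx _ hx'
  have h2 : g * a * g⁻¹ * x * (g * a * g⁻¹)⁻¹ * x⁻¹ =
      g * (a * (g⁻¹ * x * g) * a⁻¹ * (g⁻¹ * x * g)⁻¹) * g⁻¹ := by group
  rw [h2]
  exact hY.conj_mem _ h1 g

theorem mem_normalizer_inf_of_normal {X Y : Subgroup G} (hX : X.Normal) (hY : Y.Normal) (g : G) :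
    g ∈ Subgroup.normalizer (X : Set G) ⊓ Subgroup.normalizer (Y : Set G) := by
  rw [Subgroup.normalizer_eq_top_iff.mpr hX, Subgroup.normalizer_eq_top_iff.mpr hY]
  exact ⟨Subgroup.mem_top _, Subgroup.mem_top _⟩

theorem comm_mem_secKer [Finite G] {p : ℕ} [Fact p.Prime] (Q : Subgroup G) (g h : G) :
    g * h * g⁻¹ * h⁻¹ ∈ secKer p Q := by
  intro X Y hX hY hle _ hidx x hx
  have hn : X ≤ Subgroup.normalizer (Y : Set G) := by
    rw [Subgroup.normalizer_eq_top_iff.mpr hY]; exact le_top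
  exact (section_prime_facts hle hn hidx).1 g (mem_normalizer_inf_of_normal hX hY g) h
    (mem_normalizer_inf_of_normal hX hY h) x hx

theorem pow_mem_secKer [Finite G] {p : ℕ} [Fact p.Prime] (Q : Subgroup G) (g : G) :
    g ^ (p - 1) ∈ secKer p Q := by
  intro X Y hX hY hle _ hidx x hx
  have hn : X ≤ Subgroup.normalizer (Y : Set G) := by
    rw [Subgroup.normalizer_eq_top_iff.mpr hY]; exact le_top
  exact (section_prime_facts hle hn hidx).2.1 g (mem_normalizer_inf_of_normal hX hY g) x hx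

theorem mem_secKer_of_coprime [Finite G] {p : ℕ} [Fact p.Prime] (Q : Subgroup G) {g : G}
    (hg : (orderOf g).Coprime (p - 1)) : g ∈ secKer p Q := by
  intro X Y hX hY hle _ hidx x hx
  have hn : X ≤ Subgroup.normalizer (Y : Set G) := by
    rw [Subgroup.normalizer_eq_top_iff.mpr hY]; exact le_top
  exact (section_prime_facts hle hn hidx).2.2 g (mem_normalizer_inf_of_normal hX hY g) hg x hx

theorem le_secKer_of_isPGroup [Finite G] {p : ℕ} [Fact p.Prime] (Q : Subgroup G) {R : Subgroup G}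
    (hR : IsPGroup p R) : R ≤ secKer p Q := by
  have hp : p.Prime := Fact.out
  intro g hg
  apply mem_secKer_of_coprime
  obtain ⟨k, hk⟩ := hR ⟨g, hg⟩
  have h1 : g ^ p ^ k = 1 := congrArg (fun z : R => (z : G)) hk
  have h2 : orderOf g ∣ p ^ k := orderOf_dvd_of_pow_eq_one h1
  apply Nat.Coprime.coprime_dvd_left h2
  apply Nat.Coprime.pow_left
  rw [Nat.coprime_comm]
  apply Nat.Coprime.symm
  rw [Nat.Prime.coprime_iff_not_dvd hp]
  intro h3
  have := Nat.le_of_dvd (Nat.sub_pos_of_lt hp.one_lt) h3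
  have := hp.one_lt
  omega

end Cfsg.Agent.Lib.Helper50
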