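import Cfsg.Agent.Lib.Helper50.Basic
import Cfsg.Agent.Lib.Helper22.Generation

set_option autoImplicit false

namespace Cfsg.Agent.Lib.Helper50

open Cfsg.Agent.Lib.Helper22

variable {G : Type*} [Group G]

/-- if `p` is the smallest prime divisor of `|G|`, the order of every element is prime to `p - 1`. -/
theorem coprime_orderOf_pred [Finite G] {p : ℕ} [Fact p.Prime]
    (hmin : ∀ q : ℕ, q.Prime → q ∣ Nat.card G → p ≤ q) (t : G) : (orderOf t).Coprime (p - 1) := by
  have hp : p.Prime := Fact.out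
  apply Nat.Coprime.symm
  apply Nat.coprime_of_dvd
  intro r hr hr1 hr2
  have h1 : r ≤ p - 1 := Nat.le_of_dvd (Nat.sub_pos_of_lt hp.one_lt) hr1
  have h2 : p ≤ r := hmin r hr (hr2.trans (orderOf_dvd_natCard t))
  have := hp.one_lt
  omega

/-- an element of a group whose order is prime to the order of the target is killed by any homomorphism. -/
theorem map_eq_one_of_coprime {H : Type*} [Group H] [Finite H] (f : G →* H) (t : G)
    (h : (orderOf t).Coprime (Nat.card H)) : f t = 1 := by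
  rw [← orderOf_eq_one_iff]
  exact Nat.eq_one_of_dvd_coprimes h (orderOf_map_dvd f t) (orderOf_dvd_natCard (f t))

/-- **Sections of order `p` for the smallest prime `p`** are centralized. -/
theorem conj_mul_inv_mem_of_relIndex_eq [Finite G] {p : ℕ} [Fact p.Prime]
    (hmin : ∀ q : ℕ, q.Prime → q ∣ Nat.card G → p ≤ q) {T T₁ : Subgroup G} (hle : T₁ ≤ T)
    (hn : T ≤ Subgroup.normalizer (T₁ : Set G)) (hidx : T₁.relIndex T = p) {t : G}
    (ht : t ∈ Subgroup.normalizer (T : Set G)) (ht₁ : t ∈ Subgroup.normalizer (T₁ : Set G)) {a : G}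
    (ha : a ∈ T) : t * a * t⁻¹ * a⁻¹ ∈ T₁ := by
  have hp : p.Prime := Fact.out
  have hnorm : (T₁.subgroupOf T).Normal := (Subgroup.normal_subgroupOf_iff_le_normalizer hle).mpr hn
  have hcard : Nat.card (↥T ⧸ T₁.subgroupOf T) = p := by
    rw [← Subgroup.index_eq_card]; exact hidx
  have hcyc : IsCyclic (↥T ⧸ T₁.subgroupOf T) := isCyclic_of_prime_card hcard
  have hfin : Finite (↥T ⧸ T₁.subgroupOf T) := inferInstance
  have haut : Nat.card (MulAut (↥T ⧸ T₁.subgroupOf T)) = p - 1 := by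
    rw [IsCyclic.card_mulAut, hcard, Nat.totient_prime hp]
  have hfin2 : Finite (MulAut (↥T ⧸ T₁.subgroupOf T)) := by
    apply Nat.finite_of_card_ne_zero
    rw [haut]
    have := hp.one_lt
    omega
  let t' : (Subgroup.normalizer (T : Set G) ⊓ Subgroup.normalizer (T₁ : Set G) : Subgroup G) :=
    ⟨t, ht, ht₁⟩
  have h1 : quotAut T T₁ t' = 1 := by
    apply map_eq_one_of_coprime
    rw [haut]
    have : orderOf t' = orderOf t := Subgroup.orderOf_mk t _
    rw [this]
    exact coprime_orderOf_pred hmin t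
  have h2 := quotAut_mk T T₁ t' ⟨a, ha⟩
  rw [h1, MulAut.one_apply] at h2
  have h3 := QuotientGroup.eq.mp h2
  rw [Subgroup.mem_subgroupOf] at h3
  have h4 : a⁻¹ * (t * a * t⁻¹) ∈ T₁ := by simpa using h3
  have h5 : t * a * t⁻¹ * a⁻¹ = a * (a⁻¹ * (t * a * t⁻¹)) * a⁻¹ := by group
  rw [h5]
  exact (Subgroup.mem_normalizer_iff.mp (hn ha) _).mp h4

/-- a `p'`-element normalizing a cyclic `p`-subgroup centralizes it, if `p` is the smallest prime divisor. -/
theorem mem_centralizer_of_isCyclic [Finite G] {p : ℕ} [Fact p.Prime]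
    (hmin : ∀ q : ℕ, q.Prime → q ∣ Nat.card G → p ≤ q) {X : Subgroup G} (hX : IsPGroup p X)
    (hcyc : IsCyclic X) {y : G} (hy : y ∈ Subgroup.normalizer (X : Set G))
    (hcop : (orderOf y).Coprime p) : y ∈ Subgroup.centralizer (X : Set G) := by
  have hp : p.Prime := Fact.out
  obtain ⟨k, hk⟩ := hX.exists_card_eq
  have hfin2 : Finite (MulAut X) := inferInstance
  have h1 : X.normalizerMonoidHom ⟨y, hy⟩ = 1 := by
    apply map_eq_one_of_coprime
    rw [IsCyclic.card_mulAut, hk, Subgroup.orderOf_mk]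
    rcases Nat.eq_zero_or_pos k with rfl | h0
    · simp
    · rw [Nat.totient_prime_pow hp h0]
      exact (Nat.Coprime.pow_right _ hcop).mul_right (coprime_orderOf_pred hmin y)
  have h2 : (⟨y, hy⟩ : Subgroup.normalizer (X : Set G)) ∈ X.normalizerMonoidHom.ker := h1
  rw [Subgroup.normalizerMonoidHom_ker, Subgroup.mem_subgroupOf] at h2
  exact h2

/-- subgroups of prescribed order between two subgroups of a `p`-group. -/
theorem exists_subgroup_card_between [Finite G] {p : ℕ} [Fact p.Prime] {A B : Subgroup G}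
    (hB : IsPGroup p B) (hAB : A ≤ B) {m : ℕ} (hA : Nat.card A ≤ p ^ m)
    (hm : p ^ m ≤ Nat.card B) : ∃ E : Subgroup G, A ≤ E ∧ E ≤ B ∧ Nat.card E = p ^ m := by
  have hp : p.Prime := Fact.out
  obtain ⟨b, hb⟩ := hB.exists_card_eq
  obtain ⟨a, ha⟩ := (hB.to_le hAB).exists_card_eq
  have ham : a ≤ m := by
    rw [ha] at hA
    exact (Nat.pow_le_pow_iff_right hp.one_lt).mp hA
  have hmb : m ≤ b := by
    rw [hb] at hm
    exact (Nat.pow_le_pow_iff_right hp.one_lt).mp hm
  have hcardA : Nat.card (A.subgroupOf B) = p ^ a := by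
    rw [← ha]
    exact Nat.card_congr (Subgroup.subgroupOfEquivOfLe hAB).toEquiv
  obtain ⟨K, hK1, hK2⟩ := Sylow.exists_subgroup_card_pow_prime_le p
    (by rw [hb]; exact pow_dvd_pow p hmb) (A.subgroupOf B) hcardA ham
  refine ⟨K.map B.subtype, ?_, Subgroup.map_subtype_le K, ?_⟩
  · intro x hx
    exact ⟨⟨x, hAB hx⟩, hK2 hx, rfl⟩
  · rw [Subgroup.card_map_of_injective B.subtype_injective, hK1]

end Cfsg.Agent.Lib.Helper50
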