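import Mathlib
import Cfsg.Agent.Lib.Helper50.FFOffender
import Cfsg.Agent.Lib.Helper50.CentrallyLarge2
import Cfsg.Agent.Lib.Lead.ZJFunctor
import Cfsg.Agent.S0653

/-! The abelian-version Thompson subgroup of a subgroup, and the final configuration of Thompson's normal
`p`-complement theorem for the pair of functors `Z`, `J`. -/

set_option autoImplicit false

universe u

namespace Cfsg.Agent.Lib.Helper50

open Subgroup Cfsg Cfsg.Agent.Lib.Lead Cfsg.Agent.Lib.Helper10

section rel
variable {Y : Type*} [Group Y]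

/-- `A` is an abelian subgroup of `T` of largest order. -/
def IsMaxAbIn (T A : Subgroup Y) : Prop :=
  A ≤ T ∧ IsMulCommutative A ∧ ∀ B : Subgroup Y, B ≤ T → IsMulCommutative B → Nat.card B ≤ Nat.card A

theorem isMulCommutative_of_le {A B : Subgroup Y} (hA : IsMulCommutative A) (hB : B ≤ A) : IsMulCommutative B := by
  rw [isMulCommutative_iff_le_centralizer] at *
  exact hB.trans (hA.trans (centralizer_le hB))

theorem isMaxAbIn_map {T : Subgroup Y} {A' : Subgroup T} (h : A' ∈ maxAbelianSubgroups T) :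
    IsMaxAbIn T (A'.map T.subtype) := by
  obtain ⟨h1, h2⟩ := h
  refine ⟨map_subtype_le _, Subgroup.map_isMulCommutative A' T.subtype, ?_⟩
  intro B hB hBc
  have h3 : IsMulCommutative (B.subgroupOf T) := inferInstance
  have := h2 _ h3
  rw [card_map_of_injective T.subtype_injective]
  rwa [Nat.card_congr (subgroupOfEquivOfLe hB).toEquiv] at this

theorem IsMaxAbIn.le_thompson {T A : Subgroup Y} (h : IsMaxAbIn T A) : A ≤ thompsonSubgroupAOf T := by
  obtain ⟨h1, h2, h3⟩ := h
  have hmem : A.subgroupOf T ∈ maxAbelianSubgroups T := by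
    refine ⟨inferInstance, ?_⟩
    intro B' hB'
    have := h3 (B'.map T.subtype) (map_subtype_le _) (Subgroup.map_isMulCommutative B' T.subtype)
    rw [card_map_of_injective T.subtype_injective] at this
    rwa [Nat.card_congr (subgroupOfEquivOfLe h1).toEquiv]
  have : (A.subgroupOf T).map T.subtype ≤ thompsonSubgroupAOf T := map_mono (le_sSup hmem)
  rwa [subgroupOf_map_subtype, inf_eq_left.mpr h1] at this

theorem thompsonSubgroupAOf_le {T N : Subgroup Y} (h : ∀ A, IsMaxAbIn T A → A ≤ N) :
    thompsonSubgroupAOf T ≤ N := by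
  unfold thompsonSubgroupAOf thompsonSubgroupA
  rw [map_le_iff_le_comap]
  apply sSup_le
  intro A' hA'
  rw [← map_le_iff_le_comap]
  exact h _ (isMaxAbIn_map hA')

theorem thompsonSubgroupAOf_le_self (T : Subgroup Y) : thompsonSubgroupAOf T ≤ T := map_subtype_le _

theorem exists_isMaxAbIn [Finite Y] (T : Subgroup Y) : ∃ A, IsMaxAbIn T A := by
  obtain ⟨A', hA'⟩ := exists_maxAbelian (G := T)
  exact ⟨_, isMaxAbIn_map hA'⟩

theorem IsMaxAbIn.inf_centralizer_le [Finite Y] {T A : Subgroup Y} (h : IsMaxAbIn T A) :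
    T ⊓ centralizer (A : Set Y) ≤ A := by
  intro x hx
  have hz : IsMulCommutative (zpowers x) := inferInstance
  have hc : zpowers x ≤ centralizer (A : Set Y) := by rw [zpowers_le]; exact hx.2
  have hB : IsMulCommutative (zpowers x ⊔ A : Subgroup Y) := isMulCommutative_sup hz h.2.1 hc
  have h1 := h.2.2 _ (sup_le (by rw [zpowers_le]; exact hx.1) h.1) hB
  have h2 : A = zpowers x ⊔ A := eq_of_le_of_card_ge le_sup_right h1
  rw [h2]
  exact (le_sup_left : zpowers x ≤ _) (mem_zpowers x)

theorem IsMaxAbIn.conj {T A : Subgroup Y} (h : IsMaxAbIn T A) (g : Y)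
    (hg : A.map (MulAut.conj g).toMonoidHom ≤ T) : IsMaxAbIn T (A.map (MulAut.conj g).toMonoidHom) :=
  ⟨hg, have := h.2.1; Subgroup.map_isMulCommutative _ _, fun B hB hBc => by
    rw [card_map_of_injective (MulAut.conj g).injective]; exact h.2.2 B hB hBc⟩

/-- `J(T) ≤ N ≤ T` with `N` normal forces `J(T)` normal. -/
theorem thompsonSubgroupAOf_normal_of_le {T N : Subgroup Y} [hN : N.Normal] (h1 : thompsonSubgroupAOf T ≤ N)
    (h2 : N ≤ T) : (thompsonSubgroupAOf T).Normal := by
  constructor
  intro j hj g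
  have key : (thompsonSubgroupAOf T).map (MulAut.conj g).toMonoidHom ≤ thompsonSubgroupAOf T := by
    rw [map_le_iff_le_comap]
    apply thompsonSubgroupAOf_le
    intro A hA
    rw [← map_le_iff_le_comap]
    apply IsMaxAbIn.le_thompson
    apply hA.conj g
    rintro _ ⟨a, ha, rfl⟩
    exact h2 (hN.conj_mem a (h1 (hA.le_thompson ha)) g)
  exact key ⟨j, hj, rfl⟩

/-- If `T` is maximal and `Z(T) ≤ Z₀`, then `Z(T)` is central or `C(Z₀) ≤ T`. -/
theorem center_normal_or_le {T Z₀ : Subgroup Y} (hT : IsCoatom T) (hZ : T ⊓ centralizer (T : Set Y) ≤ Z₀) :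
    (T ⊓ centralizer (T : Set Y)).Normal ∨ centralizer (Z₀ : Set Y) ≤ T := by
  by_cases h : centralizer (Z₀ : Set Y) ≤ T
  · exact Or.inr h
  · left
    have htop : T ⊔ centralizer (Z₀ : Set Y) = ⊤ :=
      hT.2 _ (lt_of_le_of_ne le_sup_left (fun he => h (he ▸ le_sup_right)))
    have hc : (⊤ : Subgroup Y) ≤ centralizer ((T ⊓ centralizer (T : Set Y) : Subgroup Y) : Set Y) := by
      rw [← htop]
      apply sup_le
      · exact le_centralizer_iff.mp inf_le_right
      · exact centralizer_le hZ
    constructor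
    intro z hz g
    have := mem_centralizer_iff.mp (hc (mem_top g)) z hz
    have e : g * z * g⁻¹ = z := by rw [← this]; group
    rw [e]; exact hz

theorem IsMaxAbIn.mm_le [Finite Y] {T A V : Subgroup Y} (h : IsMaxAbIn T A) (hVT : V ≤ T)
    (hVc : IsMulCommutative V) {B : Subgroup Y} (hB : B ≤ A) : mm V B ≤ mm V A := by
  unfold mm
  set D := V ⊓ centralizer (B : Set Y) with hD
  have hBc : IsMulCommutative B := isMulCommutative_of_le h.2.1 hB
  have hDc : IsMulCommutative D := isMulCommutative_of_le hVc inf_le_left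
  have hBD : B ≤ centralizer (D : Set Y) := le_centralizer_iff.mp inf_le_right
  have hsup : IsMulCommutative (B ⊔ D : Subgroup Y) := isMulCommutative_sup hBc hDc hBD
  have h1 := card_mul_card_le B D
  have h2 := h.2.2 (B ⊔ D) (sup_le (hB.trans h.1) (inf_le_left.trans hVT)) hsup
  have h3 : B ⊓ D ≤ V ⊓ centralizer (A : Set Y) := fun x hx =>
    ⟨hx.2.1, (isMulCommutative_iff_le_centralizer.mp h.2.1) (hB hx.1)⟩
  have h4 := card_le_of_le h3
  exact h1.trans (Nat.mul_le_mul h2 h4)

end rel

section functors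
variable {p : ℕ}

theorem isCharPFunctor_center [Fact p.Prime] : IsCharPFunctor.{u} p (fun Q _ => Subgroup.center Q) := by
  refine ⟨fun Q _ _ hQ hnt => ?_, fun Q R _ _ _ _ φ => ?_⟩
  · have := hQ.center_nontrivial
    exact (Subgroup.nontrivial_iff_ne_bot _).mp this
  · ext r
    constructor
    · rintro ⟨q, hq, rfl⟩
      rw [mem_center_iff]
      intro g
      have := mem_center_iff.mp hq (φ.symm g)
      have h2 := congrArg φ this
      simpa using h2
    · intro hr
      refine ⟨φ.symm r, ?_, by simp⟩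
      refine mem_center_iff.mpr ?_
      intro g
      have := mem_center_iff.mp hr (φ g)
      apply φ.injective
      simpa using this

theorem isCharPFunctor_thompsonSubgroupA [Fact p.Prime] :
    IsCharPFunctor.{u} p (fun Q _ => thompsonSubgroupA Q) := by
  refine ⟨fun Q _ _ hQ hnt => ?_, fun Q R _ _ _ _ φ => ?_⟩
  · intro h
    apply zjA_ne_bot Q hQ
    rw [eq_bot_iff, ← h]
    exact inf_le_left
  · apply le_antisymm (thompsonSubgroupA_map_le φ)
    intro y hy
    exact ⟨φ.symm y, thompsonSubgroupA_map_le φ.symm (mem_map_of_mem φ.symm.toMonoidHom hy), by simp⟩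

theorem inducedFunctor_center {G : Type u} [Group G] (T : Subgroup G) :
    inducedFunctor (fun Q _ => Subgroup.center Q) T = T ⊓ centralizer (T : Set G) := by
  unfold inducedFunctor
  ext x
  constructor
  · rintro ⟨y, hy, rfl⟩
    refine ⟨y.2, mem_centralizer_iff.mpr ?_⟩
    intro t ht
    exact congrArg Subtype.val (mem_center_iff.mp hy ⟨t, ht⟩)
  · rintro ⟨hx1, hx2⟩
    refine ⟨⟨x, hx1⟩, mem_center_iff.mpr ?_, rfl⟩
    intro t
    exact Subtype.ext (mem_centralizer_iff.mp hx2 t t.2)

theorem inducedFunctor_thompsonSubgroupA {G : Type u} [Group G] (T : Subgroup G) :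
    inducedFunctor (fun Q _ => thompsonSubgroupA Q) T = thompsonSubgroupAOf T := rfl

end functors

/-- The final configuration: `Z(T)` or `J(T)` is normal. -/
theorem finalConfig_normal {p : ℕ} [hp : Fact p.Prime] {Y : Type u} [Group Y] [Finite Y] (T : Sylow p Y)
    (hT : FinalConfig p Y T) (h : p ≠ 2 ∨ ¬ Involves (Equiv.Perm (Fin 4)) Y) :
    ((T : Subgroup Y) ⊓ centralizer ((T : Subgroup Y) : Set Y)).Normal ∨
      (thompsonSubgroupAOf (T : Subgroup Y)).Normal := by
  by_cases hp2 : p = 2
  · subst hp2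
    have hS4 := h.resolve_left (by simp)
    set H := pCore 2 Y with hH
    have hHT : H ≤ T := pCore_le_sylow T
    have hHp : IsPGroup 2 H := pCore_isPGroup 2 Y
    set Z₀ := H ⊓ centralizer (H : Set Y) with hZ₀
    have hZ₀n : Z₀.Normal := inferInstance
    have hZ : (T : Subgroup Y) ⊓ centralizer ((T : Subgroup Y) : Set Y) ≤ Z₀ := fun z hz => by
      have h1 : z ∈ centralizer (H : Set Y) := centralizer_le hHT hz.2
      exact ⟨hT.1 h1, h1⟩
    rcases center_normal_or_le hT.2.2 hZ with h1 | h1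
    · exact Or.inl h1
    right
    have hCH : centralizer (Z₀ : Set Y) ≤ H := le_pCore inferInstance (T.2.to_le h1)
    have hZc : ∀ x ∈ Z₀, ∀ y ∈ Z₀, x * y = y * x := fun x hx y hy => mem_centralizer_iff.mp hy.2 x hx.1
    set V := omegaSub 2 Z₀ hZc with hV
    have hVn : V.Normal := omegaSub_normal 2 Z₀ hZc hZ₀n
    have hVea : IsElementaryAbelian 2 V :=
      ⟨⟨⟨fun a b => Subtype.ext (hZc a a.2.1 b b.2.1)⟩⟩, fun a ha => ha.2⟩
    have hCV : centralizer (V : Set Y) = H := by
      apply le_antisymm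
      · apply le_pCore inferInstance
        intro c
        obtain ⟨k, hk⟩ := exists_pow_prime_pow_coprime (p := 2) (c : Y)
        have hc' : (c : Y) ^ 2 ^ k ∈ centralizer (Z₀ : Set Y) :=
          mem_centralizer_of_centralizes_omegaSub hZc (hHp.to_le inf_le_left)
            ((normalizer_eq_top_iff.mpr hZ₀n).ge (mem_top _)) hk (pow_mem c.2 _)
        obtain ⟨j, hj⟩ := hHp ⟨_, hCH hc'⟩
        refine ⟨k + j, Subtype.ext ?_⟩
        have hj' : ((c : Y) ^ 2 ^ k) ^ 2 ^ j = 1 := by simpa using congrArg Subtype.val hj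
        rw [← pow_mul, ← pow_add] at hj'
        simpa using hj'
      · exact le_centralizer_iff.mp ((omegaSub_le 2 Z₀ hZc).trans inf_le_right)
    by_cases hJ : thompsonSubgroupAOf (T : Subgroup Y) ≤ H
    · exact thompsonSubgroupAOf_normal_of_le hJ hHT
    exfalso
    have hex : ∃ A, IsMaxAbIn (T : Subgroup Y) A ∧ ¬ A ≤ H := by
      by_contra hcon
      push Not at hcon
      exact hJ (thompsonSubgroupAOf_le hcon)
    obtain ⟨A, hA, hAH⟩ := hex
    have hA2 : IsPGroup 2 A := T.2.to_le hA.1
    have hVT : V ≤ T := ((omegaSub_le 2 Z₀ hZc).trans inf_le_left).trans hHT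
    have hAV : A ≤ normalizer (V : Set Y) := le_top.trans (normalizer_eq_top_iff.mpr hVn).ge
    have hab : ⁅A, A⁆ ≤ centralizer (V : Set Y) := by
      have : ⁅A, A⁆ = ⊥ :=
        commutator_eq_bot_iff_le_centralizer.mpr (isMulCommutative_iff_le_centralizer.mp hA.2.1)
      rw [this]; exact bot_le
    obtain ⟨hb, hbne⟩ := bestOffender_of_mm_max hVea hAV hab hA2 (fun B hB => hA.mm_le hVT hVea.1 hB)
      (by rw [hCV]; exact hAH)
    apply hS4
    apply involves_perm4_of_bestOffender V hVea ?_ _ (hA2.to_le inf_le_left) hb hbne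
    exact hS1_of_equiv (QuotientGroup.quotientMulEquivOfEq hCV.symm)
      (hS1_of_hasNormalPComplement hT.2.1 (pCore_quotient_pCore 2 Y))
  · have hch := Cfsg.Agent.S0653.result hp2 hT.1 (fun V _ hV => hT.isPStableOn hp2 V hV) T
    have hn : (centerThompsonAOf (T : Subgroup Y)).Normal := Subgroup.normal_of_characteristic _
    have hZ : (T : Subgroup Y) ⊓ centralizer ((T : Subgroup Y) : Set Y) ≤ centerThompsonAOf (T : Subgroup Y) := by
      intro z hz
      obtain ⟨A, hA⟩ := exists_isMaxAbIn (T : Subgroup Y)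
      exact ⟨hA.le_thompson (hA.inf_centralizer_le ⟨hz.1, centralizer_le hA.1 hz.2⟩),
        centralizer_le (thompsonSubgroupAOf_le_self _) hz.2⟩
    rcases center_normal_or_le hT.2.2 hZ with h1 | h1
    · exact Or.inl h1
    · right
      exact thompsonSubgroupAOf_normal_of_le (N := centralizer (centerThompsonAOf (T : Subgroup Y) : Set Y))
        (le_centralizer_iff.mp inf_le_right) h1

end Cfsg.Agent.Lib.Helper50
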